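import Cfsg.Agent.Class.Sp4O.T4H

/-! The group `SL₂(7)` in `Sp₄(7)`. -/

set_option autoImplicit false

namespace Cfsg.Lib.Class.Sp4O

open Matrix QuadraticMap Cfsg.Geo Cfsg.Lib.Class.Asch Cfsg.Lib.Class.Orth Cfsg.Lib.Mit
  Cfsg.Lib.Known Cfsg.Lib.Known.G168

variable {F : Type*} [Field F] {P H : Subgroup (G4 F)}

/-- A regular unipotent element conjugate to its inverse. -/
theorem isSquare_of_real (p : ℕ) [Fact p.Prime] [CharP F p] (h2 : (2 : F) ≠ 0) {y d : G4 F}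
    (hy : y ∈ spGL 2 F) (hd : d ∈ spGL 2 F) (h : y ^ p = 1) (h0 : (y.1 - 1) * (y.1 - 1) ≠ 0)
    (e : d * y * d⁻¹ = y⁻¹) : IsSquare (-1 : F) := by
  obtain ⟨-, -, e1, e2⟩ := unip_spec p h2 hy h
  have e3 : (y⁻¹).1 - 1 = -((y⁻¹).1 * (y.1 - 1)) := by simp [mul_sub]
  have e4 : adj (y.1 - 1) = (y⁻¹).1 - 1 := by rw [adj_sub, adj_one, adj_eq_inv hy]
  have e5 : ((y⁻¹).1 - 1) * d.1 = d.1 * (y.1 - 1) := by rw [← e]; simp [mul_sub, sub_mul]
  have c : Commute (y.1 - 1) (y⁻¹).1 :=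
    ((Commute.refl y.1).units_inv_right).sub_left (Commute.one_left _)
  have e6 : (y⁻¹).1 * ((y.1 - 1) * ((y.1 - 1) * (y.1 - 1))) = (y.1 - 1) * ((y.1 - 1) * (y.1 - 1)) := by
    rw [Units.inv_mul_eq_iff_eq_mul]; linear_combination (norm := noncomm_ring) -e2
  generalize y.1 - 1 = ν at *
  have e7 : ((y⁻¹).1 - 1) * (((y⁻¹).1 - 1) * ((y⁻¹).1 - 1)) = -(ν * (ν * ν)) := by
    rw [e3]
    simp only [mul_neg, neg_mul, neg_neg, mul_assoc, c.left_comm, e6]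
  obtain ⟨x, hx⟩ := exists_mulVec_ne (A := ν * (ν * ν)) fun e => h0 (by
    by_cases h1 : Jm y = 0
    · rwa [e1, Units.mul_right_eq_zero] at h1
    · exact W_mul_eq_zero h2 (Jm_mem h2 hy) h1 (by rw [e1, c.left_comm, e, mul_zero])
        (by rw [e1, mul_assoc, mul_assoc, e, mul_zero]))
  have hc := reg_cube e2 hx
  have a1 : adj (ν * (ν * ν)) = -(ν * (ν * ν)) := by rw [adj_mul, adj_mul, e4, mul_assoc, e7]
  have a2 : ν * (ν * ν) * d.1 = -(d.1 * (ν * (ν * ν))) := by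
    rw [← neg_eq_iff_eq_neg, ← neg_mul, ← e7, mul_assoc, mul_assoc, e5, ← mul_assoc _ d.1, e5,
      ← mul_assoc, ← mul_assoc, e5, mul_assoc, mul_assoc]
  generalize ν * (ν * ν) = Y at *
  have key : ∀ v c, Y *ᵥ v = c • Y *ᵥ x →
      sympForm 2 F v (Y *ᵥ x) = c * sympForm 2 F x (Y *ᵥ x) := fun v c e => by
    rw [form_adj', a1, neg_mulVec, e, sympForm_skew]
    simp [sympForm, mulVec_neg, mulVec_smul]
  obtain ⟨c, e8⟩ := hc (d.1 *ᵥ x)
  have e9 := (mem_spGL _ _).1 hd x (Y *ᵥ x)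
  rw [mulVec_mulVec, ← neg_neg (d.1 * Y), ← a2, neg_mulVec, ← mulVec_mulVec, e8,
    ← sympBilin_apply, map_neg, map_smul, sympBilin_apply, key _ _ e8, smul_eq_mul] at e9
  refine ⟨c, mul_right_cancel₀ (b := sympForm 2 F x (Y *ᵥ x)) (fun h => hx (eq_zero_of_sympForm 2 _ fun v => ?_))
    (by linear_combination e9)⟩
  obtain ⟨c, e⟩ := hc v
  rw [sympForm_skew, key v c e, h, mul_zero, neg_zero]

/-- Generators of the eight subgroups of order seven. -/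
def l7g (i : Fin 8) : tab.El := tab.el (![1, 10, 40, 37, 35, 33, 32, 31] i)

/-- The Gram matrix of the eight isotropic vectors. -/
def l7G : Fin 8 → Fin 8 → ZMod 7 :=
  ![![0, 1, 1, 1, 1, 1, 1, 1], ![1, 0, 1, 2, 4, 4, 2, 1], ![1, 1, 0, 1, 2, 4, 4, 2],
    ![1, 2, 1, 0, 1, 2, 4, 4], ![1, 4, 2, 1, 0, 1, 2, 4], ![1, 4, 4, 2, 1, 0, 1, 2],
    ![1, 2, 4, 4, 2, 1, 0, 1], ![1, 1, 2, 4, 4, 2, 1, 0]]

/-- The coordinates of the frame. -/
def l7C : Fin 7 → Fin 8 → ZMod 7 :=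
  ![![0, 0, 0, 0, 0, 0, 0, 0], ![0, 1, 5, 1, 3, 0, 0, 0], ![2, 6, 5, 4, 4, 0, 0, 0],
    ![6, 2, 1, 1, 4, 0, 0, 0], ![5, 6, 2, 1, 0, 0, 0, 0], ![5, 3, 1, 6, 1, 0, 0, 0],
    ![3, 3, 0, 1, 2, 0, 0, 0]]

/-- `z` is, up to inversion, the power with exponent `2 ^ e` of the generator number `j`. -/
def L7 (z : tab.El) (j : Fin 8) (e : Fin 3) : Prop :=
  z = l7g j ^ 2 ^ e.1 ∨ z = (l7g j ^ 2 ^ e.1)⁻¹

noncomputable instance instDecidableL7 (z : tab.El) (j : Fin 8) (e : Fin 3) :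
    Decidable (L7 z j e) := inferInstanceAs (Decidable (_ ∨ _))

theorem l7_all : ∀ x i, ∃ j e, L7 (x * l7g i * x⁻¹) j e := by decide +kernel

theorem l7_gram : ∀ i j, i ≠ j → ∃ x e e', L7 (x * l7g 0 * x⁻¹) i e ∧ L7 (x * l7g 1 * x⁻¹) j e' ∧
    4 ^ e.1 * (4 ^ e'.1 * l7G i j) = 1 ∧ l7G i j ^ 3 = 1 := by decide +kernel

theorem l7_act : ∀ x ∈ [tab.el 1, tab.el 2], ∃ σ ∈ [![0, 2, 3, 4, 5, 6, 7, 1],
    ![1, 0, 7, 4, 3, 6, 5, 2]], ∃ e ∈ [![0, 0, 0, 0, 0, 0, 0, 0], ![0, 0, 0, 2, 1, 1, 2, 0]],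
    ∃ τ ∈ [![5, 0, 4, 2, 6, 3, 1], ![0, 2, 1, 5, 4, 3, 6]], (∀ i, L7 (x * l7g i * x⁻¹) (σ i) (e i)) ∧
      ∀ a b, (a ≠ b → τ a ≠ τ b) ∧ ∀ j, ∑ i, (l7C a i - l7C b i) * (4 ^ (e i).1 * l7G (σ i) j) =
        ∑ i, (l7C (τ a) i - l7C (τ b) i) * l7G i j := by decide +kernel

theorem l7_fr : ∀ a c, ∑ j, l7C c j * ∑ i, l7C a i * l7G i j =
    (if a = c then 1 else 0) + (if a = 0 then 3 else 4) + if c = 0 then 3 else 4 := by
  decide +kernel

theorem l7_three : ∀ z : tab.El, z ^ 3 = 1 → z ≠ 1 → ∃ k, k * z * k⁻¹ = tab.el 2 * tab.el 1 := by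
  decide +kernel

theorem Cv.l27 [Fintype F] {π : P →* tab.El} (h : Cv P π) (hq : NoQuad P)
    (h7 : Fintype.card F = 7) (hH : IsMaximalIn (spGL 2 F) H) (hP : P ≤ H) (hn : NrmG H P) :
    False := by
  have h2 := h.h2
  have : CharP F 7 := charP_of_card_eq_prime h7
  have h3 : (3 : F) ≠ 0 := by exact_mod_cast (CharP.cast_eq_zero_iff F 7 3).not.2 (by norm_num)
  let φ := ZMod.castHom (dvd_refl 7) F
  have o7 : ∀ i, l7g i ^ 7 = 1 ∧ l7g i ^ 2 ≠ 1 := by decide +kernel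
  have n0 : ((lsq π (l7g 0)).1 - 1) * ((lsq π (l7g 0)).1 - 1) ≠ 0 := fun e => (o7 0).2 (by
    rw [← h.π_lsq, ← map_one π]; exact congrArg π (Subtype.ext (hq.eq_one h3 (lsq_mem _) e)))
  have hHP : H ≤ P := fun g hg => by
    obtain ⟨ψ, i1, i2, i3, -⟩ := h.ind ⟨g, hH.1.le hg⟩ (hn g hg)
    rcases l27_aut ψ i1 with ⟨k, hk⟩ | ⟨k, hk⟩ <;> obtain ⟨k, rfl⟩ := h.surj k
    · rcases eq_of_mem_scalars (mul_mem (inv_mem (h.le k.2)) (hH.1.le hg))
        (h.mem_of_inner h.toQS (hn g hg) fun x => by rw [← hk, i2]) with e | e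
      · exact inv_mul_eq_one.1 e ▸ k.2
      · exact inv_mul_eq_iff_eq_mul.1 e ▸ mul_mem k.2 h.neg
    have e := congrArg (lsq π) hk
    rw [h.lsq_conj, h.lsq_inv, i3] at e
    exact absurd (isSquare_of_real 7 h2 (h.sp _) (mul_mem (inv_mem (hH.1.le hg)) (h.le k.2))
      (h.lsq_pow_eq_one (o7 0).1) n0 (by
        change g⁻¹ * k * lsq π (tab.el 1) * _ = (lsq π (tab.el 1))⁻¹
        rw [_root_.mul_inv_rev, mul_assoc g⁻¹, mul_assoc g⁻¹, ← mul_assoc _ _⁻¹, e]; group))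
      (by rw [FiniteField.isSquare_neg_one_iff, h7]; norm_num)
  have hu := fun i => unip_spec 7 h2 (h.sp (l7g i)) (h.lsq_pow_eq_one (o7 i).1)
  have hV : ∀ {x i j e}, L7 (x * l7g i * x⁻¹) j e →
      (h.act x).1 (h.V (l7g i)) = φ (4 ^ e.1) • h.V (l7g j) := fun {x i j e} he => by
    rw [h.act_V, h.V_eq he]
    generalize e.1 = n
    induction n with
    | zero => simp
    | succ n ih =>
      rw [pow_succ, pow_mul, h.V_sq, ih, smul_smul, pow_succ', map_mul, map_ofNat,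
        (unip_spec 7 h2 (h.sp _) (h.lsq_pow_eq_one (by
          rw [← pow_mul, mul_comm, pow_mul, (o7 j).1, one_pow]))).1]
  have z0 : h.V (l7g 0) ≠ 0 := fun e => n0 (by
    have := congrArg Subtype.val e
    rwa [h.V_val, (hu 0).2.2.1, Submodule.coe_zero, Units.mul_right_eq_zero] at this)
  have orth : ∀ X, (∀ j, polar (Qw F) X (h.V (l7g j)) = 0) → X = 0 := fun X hX =>
    (Qw_nondeg h2).1 X fun Y => LinearMap.eqOn_span' (f := polarBilin (Qw F) X) (g := 0)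
      (by rintro _ ⟨j, rfl⟩; exact hX j) ((h.span_top (Φ := Set.range fun j => h.V (l7g j)) (by
        rintro x _ ⟨i, rfl⟩
        obtain ⟨j, e, he⟩ := l7_all x i
        exact hV he ▸ Submodule.smul_mem _ _ (Submodule.subset_span ⟨j, rfl⟩)) ⟨0, rfl⟩ z0).ge
      (Submodule.mem_top (x := Y)))
  obtain ⟨β, hβ⟩ : ∃ β, ∀ i j, polar (Qw F) (h.V (l7g i)) (h.V (l7g j)) = φ (l7G i j) * β := by
    refine ⟨polar (Qw F) (h.V (l7g 0)) (h.V (l7g 1)), fun i j => ?_⟩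
    by_cases e : i = j
    · rw [e, polar_self', smul_one_inj ((mul_self_W h2 (h.V (l7g j))).symm.trans
        ((hu j).2.1.trans (zero_smul F _).symm)), (by decide : ∀ j, l7G j j = 0) j]
      simp
    obtain ⟨x, a, b, h1, h4, h5, -⟩ := l7_gram i j e
    rw [← O_polar (h.act x) (h.V (l7g 0)), hV h1, hV h4, polar_smul_left', polar_smul_right',
      ← mul_assoc, ← mul_assoc, ← map_mul, ← map_mul, show l7G i j * 4 ^ a.1 * 4 ^ b.1 = 1 by
        rw [← h5]; ring, map_one, one_mul]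
  have β0 : β ≠ 0 := fun e => z0 (orth _ fun j => by rw [hβ, e, mul_zero])
  obtain ⟨u, hu⟩ : ∃ u : Fin 7 → W F, ∀ a, u a = ∑ i, φ (l7C a i) • h.V (l7g i) :=
    ⟨_, fun _ => rfl⟩
  have pl : ∀ (c : Fin 8 → F) (w : Fin 8 → W F) Y, polar (Qw F) (∑ i, c i • w i) Y =
      ∑ i, c i * polar (Qw F) (w i) Y := fun c w Y =>
    (map_sum ((polarBilin (Qw F)).flip Y) (fun i => c i • w i) Finset.univ).trans
      (Finset.sum_congr rfl fun i _ => polar_smul_left' _ _ _)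
  have hf : Fr u β fun a => φ (if a = 0 then 3 else 4) * β := ⟨h2, h3, β0, fun a c => by
    have := congrArg (φ · * β) (l7_fr a c)
    simp only [map_sum, map_mul, map_add, Finset.sum_mul, add_mul, mul_assoc] at this
    rw [polar_comm, hu c, pl]
    simp only [polar_comm _ (h.V _) (u a)]
    simp only [hu a, pl, hβ, Finset.mul_sum]
    simp only [Finset.mul_sum, Finset.sum_mul, mul_assoc] at this
    rw [this]
    split_ifs <;> simp⟩
  have sub : ∀ a b, u a - u b = ∑ i, φ (l7C a i - l7C b i) • h.V (l7g i) := fun a b => by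
    rw [hu, hu, ← Finset.sum_sub_distrib]
    exact Finset.sum_congr rfl fun i _ => by rw [map_sub]; module
  have hi : ∀ x a b, a ≠ b → ∃ c d, c ≠ d ∧ (h.act x).1 (u a - u b) = u c - u d := fun x => by
    have hx : x ∈ Submonoid.closure {tab.el 1, tab.el 2} := by
      rw [← Subgroup.closure_toSubmonoid_of_finite]
      exact (l27_gen (Subgroup.subset_closure (by simp)) (Subgroup.subset_closure (by simp))).ge
        (Subgroup.mem_top x)
    induction hx using Submonoid.closure_induction with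
    | mem x hx =>
      obtain ⟨σ, -, e, -, τ, -, h1, h4⟩ := l7_act x (by simpa using hx)
      refine fun a b hab => ⟨τ a, τ b, (h4 a b).1 hab, sub_eq_zero.1 (orth _ fun j => ?_)⟩
      have := congrArg (φ · * β) ((h4 a b).2 j)
      simp only [map_sum, map_mul, Finset.sum_mul, mul_assoc] at this
      simp only [polar_sub_left, sub, map_sum, map_smul, hV (h1 _), pl, polar_smul_left', hβ, this,
        sub_self]
    | one => exact fun a b e => ⟨a, b, e, by simp⟩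
    | mul x y _ _ hx hy =>
      intro a b e
      obtain ⟨c, d, e1, e2⟩ := hy a b e
      exact (hx c d e1).imp fun _ => Exists.imp fun _ => And.imp_right fun e3 => by
        rw [map_mul, O_mul_apply, e2, e3]
  obtain ⟨g, hg, e, -⟩ := h.rf hH hP hf (fun g hg => (h.act_π ⟨g.1, hHP hg⟩ ▸ hi _ :))
    (a := 0) (b := 1) (c := 1) (d := 2) (by decide) (by decide)
  have e1 : sm g.1 = (-1 : F) • 1 := by
    rw [sm, ← adj_eq_inv g.2, e, adj_smul, adj_mul, (u 0 - u 1).2.1, (u 1 - u 2).2.1, ← smul_add,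
      anticomm h2, hf.pol, smul_smul]
    simp [β0]
  have e2 : g.1 ^ 3 = 1 := Units.ext (by
    have := congrArg (g.1.1 * ·) e1
    simp only [sm, mul_add, Units.mul_inv, neg_smul, one_smul, mul_neg, mul_one] at this
    rw [Units.val_pow_eq_pow_val, Units.val_one]
    linear_combination (norm := noncomm_ring) (g.1.1 - 1) * this)
  obtain ⟨k, hk⟩ := l7_three (π ⟨g.1, hHP hg⟩) (by
    rw [← map_pow, ← map_one π]; exact congrArg π (Subtype.ext e2)) fun e3 => by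
      rcases (h.ker' _).1 e3 with e3 | e3
      · rw [show g.1 = 1 from e3, sm_one] at e1
        exact h3 (by linear_combination smul_one_inj e1)
      · rw [show g.1 = -1 from e3, Odd.neg_one_pow (by decide)] at e2
        exact neg_ne_self' h2 1 e2
  obtain ⟨k, rfl⟩ := h.surj k
  obtain ⟨t, ht⟩ := h.surj (tab.el 2)
  exact h.quad (β := -1) (b := k * ⟨g.1, hHP hg⟩ * k⁻¹) (sm_of_sq (h.sq_eq (x := t)
    (by rw [ht]; decide +kernel) (by rw [ht]; decide +kernel)))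
    ((sm_conj _ _).trans (by simp [e1])) fun K h1 h4 => l27_gen
      ((K.mul_mem_cancel_left (ht ▸ h1)).1 (by simpa [hk] using h4)) (ht ▸ h1)

end Cfsg.Lib.Class.Sp4O
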