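import Cfsg.Agent.Class.Sp4O.T4E
import Cfsg.Agent.Class.Sp4O.T4I
import Cfsg.Agent.Class.FieldIso
import Cfsg.Agent.Rank2.QuatSylow
import Cfsg.Agent.Rank2.SimpleSyl
import Cfsg.Agent.Perm.QuatAut
import Cfsg.Agent.S0253

/-! Maximal subgroups of `Sp₄(q)`, `q` odd, whose socle preimage has a unique involution. -/

set_option autoImplicit false

namespace Cfsg.Lib.Class.Sp4O

open Matrix Cfsg.Geo Cfsg.Lib.Class.Asch Cfsg.Lib.Mit
open scoped MatrixGroups

variable {F : Type*} [Field F] [Fintype F] {H P : Subgroup (G4 F)}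

theorem St.gw (hs : St P) (hinv : ∀ t ∈ P, t * t = 1 → t = 1 ∨ t = -1) : -1 ∈ P ∧
    ((∃ (K : Type) (_ : Field K) (_ : Fintype K), Odd (Fintype.card K) ∧ 3 < Fintype.card K ∧
      Nonempty (Bar P ≃* PSL(2, K))) ∨ Nonempty (Bar P ≃* alternatingGroup (Fin 7))) := by
  have := hs.simple
  obtain ⟨S⟩ : Nonempty (Sylow 2 P) := inferInstance
  have u : ∀ x : S, x ≠ 1 → x ^ 2 = 1 → x.1.1 = -1 := fun x h1 h2 =>
    (hinv _ x.1.2 (by rw [← pow_two]; exact congrArg (·.1.1) h2)).resolve_left fun e =>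
      h1 (Subtype.ext (Subtype.ext e))
  obtain ⟨n, ⟨e⟩⟩ := (Perm.isCyclic_or_quaternion_of_unique S.isPGroup' fun x y h1 h2 h3 h4 =>
    Subtype.ext (Subtype.ext ((u x h1 h3).trans (u y h2 h4).symm))).resolve_left fun hc =>
      Rank2.not_isCyclic_sylow hs.nonabelian (S.mapSurjective (QuotientGroup.mk'_surjective _))
        (isCyclic_of_surjective _ (MonoidHom.subgroupMap_surjective _ _))
  have ho := Solv.odd_card_oddCore P
  have h0 : oddCore P = ⊥ := by
    rcases hs.normal_cases (oddCore P) with h | h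
    · refine eq_bot_iff.2 fun x hx => ?_
      have h1 : x ^ 2 = 1 := Subtype.ext (by
        rcases eq_of_mem_scalars (hs.le x.2) (h hx) with e | e <;> simp [e])
      exact orderOf_eq_one_iff.1 (Nat.eq_one_of_dvd_coprimes (Nat.coprime_two_left.2 ho)
        (orderOf_dvd_of_pow_eq_one h1) (Subgroup.orderOf_dvd_natCard _ hx))
    · rw [h, Subgroup.card_top] at ho
      exact absurd (((by norm_num : 2 ∣ 4).trans hs.four_dvd).trans
        (Subgroup.card_quotient_dvd_card _)) ho.not_two_dvd_nat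
  obtain ⟨h1, h2, T, hT⟩ := Rank2.center_of_quaternion h0 S e
  have hc : Subgroup.center P = (scalars I F).subgroupOf P := le_antisymm
    (fun x hx => Asch.mem_scalars_of_comm hs.env_top fun y hy =>
      (congrArg Subtype.val (Subgroup.mem_center_iff.1 hx ⟨y, hy⟩)).symm)
    fun x hx => Subgroup.mem_center_iff.2 fun y => Subtype.ext (comm_of_mem_scalars hx y.1).symm
  have e₀ := (QuotientGroup.quotientMulEquivOfEq hc.symm).trans
    (QuotientGroup.quotientBot.symm.trans (QuotientGroup.quotientMulEquivOfEq h2.symm))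
  have : Group.IsPerfect P := ⟨by
    apply Subgroup.map_injective P.subtype_injective
    rw [_root_.commutator_def, Subgroup.map_commutator, ← MonoidHom.range_eq_map,
      Subgroup.range_subtype, hs.perfect]⟩
  refine ⟨?_, (Agent.S0483.result T _ (Nat.le_self_pow n.succ_ne_zero 2) hT).imp ?_ ?_⟩
  · obtain ⟨z, hz, h3⟩ := (Subgroup.center P).bot_or_exists_ne_one.resolve_left fun e => by
      simp [e] at h1
    exact (eq_of_mem_scalars (hs.le z.2) (hc.le hz)).resolve_left (fun e => h3 (Subtype.ext e)) ▸ z.2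
  · rintro ⟨K, _, _, h3, h4, ⟨e⟩⟩
    exact ⟨K, _, _, h3, h4, ⟨e₀.trans e⟩⟩
  · exact fun ⟨e⟩ => ⟨e₀.trans e⟩

theorem t4 (h2 : (2 : F) ≠ 0) (hH : IsMaximalIn (spGL 2 F) H) (hP : IsResidualCore H P)
    (hs : St P) (hq : NoQuad P) (hinv : ∀ t ∈ P, t * t = 1 → t = 1 ∨ t = -1) :
    ∃ p : ℕ, p.Prime ∧ CharP F p ∧
      ((Nonempty ((P ⧸ (scalars (Fin 2 ⊕ Fin 2) F).subgroupOf P) ≃* alternatingGroup (Fin 6)) ∧
        Fintype.card F = p ∧ 5 ≤ p ∧ p ≠ 7) ∨
      (Nonempty ((P ⧸ (scalars (Fin 2 ⊕ Fin 2) F).subgroupOf P) ≃* alternatingGroup (Fin 7)) ∧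
        Fintype.card F = 7) ∨
      (Nonempty ((P ⧸ (scalars (Fin 2 ⊕ Fin 2) F).subgroupOf P) ≃*
        Matrix.ProjectiveSpecialLinearGroup (Fin 2) F) ∧ 5 ≤ p ∧ 7 < Fintype.card F)) := by
  obtain ⟨p, hpF⟩ := CharP.exists F
  have hp : Fact p.Prime := ⟨CharP.char_is_prime F p⟩
  obtain ⟨hn, hK⟩ := hs.gw hinv
  obtain ⟨π, hπ⟩ := exists_proj (MulEquiv.refl (Bar P))
  have h : Cv P π := ⟨hs, hπ, h2, hinv, hn⟩
  have hp2 : p ≠ 2 := by rintro rfl; exact h2 (by exact_mod_cast CharP.cast_eq_zero F 2)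
  have hp5 : p ≠ 3 → 5 ≤ p := fun h3 => hp.out.five_le_of_ne_two_of_ne_three hp2 h3
  refine ⟨p, hp.out, hpF, ?_⟩
  rcases hK with ⟨K, _, _, ho, h3, ⟨e⟩⟩ | ⟨⟨e⟩⟩
  swap
  · exact .inr (.inl ⟨⟨e⟩, (h.comp e).alt7⟩)
  have h5 : Fintype.card K ≠ 5 := fun h5 => (Agent.S0253.result h5).elim fun e' =>
    (h.comp (e.trans e')).alt5 hH hP.le hP.normal
  have h' := h.comp (e.trans (pslEquivPsl2 K))
  by_cases hc : ringChar F = ringChar K
  · have : CharP K p := ringChar.of_eq (hc.symm.trans (ringChar.eq F p))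
    obtain ⟨h4, h6⟩ := h'.defining hq p h3
    have h7 : Fintype.card K ≠ 7 := fun h7 => by
      have := hs.simple
      obtain ⟨e'⟩ := Agent.S0255.result (K := ZMod 2) h7 (ZMod.card 2)
      obtain ⟨e''⟩ := Known.G168.nonempty_equiv (G := Bar P)
        ((Nat.card_congr (e.trans e').toEquiv).trans card_PSL_three_two)
      exact (h.comp e''.symm).l27 hq (h6 ▸ h7) hH hP.le hP.normal
    obtain ⟨m, hm⟩ := ho
    exact .inr (.inr ⟨⟨e.trans (pslEquiv _ (FiniteField.ringEquivOfCardEq h6))⟩, hp5 h4, by omega⟩)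
  · have h9 := (h'.cross hc ho h3).resolve_left h5
    have h4 : p ≠ 3 := by
      rintro rfl
      have : CharP K 3 := charP_of_card_eq_prime_pow (f := 2) h9
      exact hc ((ringChar.eq F 3).trans (ringChar.eq K 3).symm)
    obtain ⟨e'⟩ := Agent.S0254.result h9
    obtain ⟨h6, h7⟩ := (h.comp (e.trans e')).alt6 (fun e => h4 ((Nat.prime_dvd_prime_iff_eq hp.out
      Nat.prime_three).1 ((CharP.cast_eq_zero_iff F p 3).1 (by exact_mod_cast e)))) hH hP.le
      hP.normal p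
    exact .inl ⟨⟨e.trans e'⟩, h6, hp5 h4, h7⟩

end Cfsg.Lib.Class.Sp4O
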