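import Cfsg.Agent.Class.Sp4O.T4B
import Cfsg.Agent.Mit.Rep

/-! Additive groups of fields inside `Sp₄(F)`. -/

set_option autoImplicit false

namespace Cfsg.Lib.Class.Sp4O

open Matrix Module QuadraticMap Cfsg.Geo Cfsg.Lib.Class.Asch Cfsg.Lib.Class.Orth Cfsg.Lib.Mit

variable {F : Type*} [Field F] {K : Type*} [Field K] [Fintype K]

theorem adj_sum {ι : Type*} (s : Finset ι) (f : ι → M4 F) :
    adj (∑ i ∈ s, f i) = ∑ i ∈ s, adj (f i) := by
  simp [adj, transpose_sum, Finset.mul_sum, Finset.sum_mul]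

theorem weights_aux {ψ : AddChar K F} (hψ : ψ.IsPrimitive) (hK : (Fintype.card K : F) ≠ 0)
    {M : K → M4 F} (hM : ∀ s t, M (s + t) = M s * M t) (h0 : M 0 = 1)
    (ha : ∀ t, adj (M t) = M (-t)) {t₀ : K} (h1 : M t₀ ≠ 1) :
    ∃ N : Finset K, N.card ≤ 4 ∧ (∃ a ∈ N, a ≠ 0) ∧ (∀ a ∈ N, -a ∈ N) ∧
      ∀ k ≠ 0, ∀ D D' : M4 F, (∀ t, D * M t * D' = M (k * t)) → ∀ a ∈ N, k * a ∈ N := by
  classical
  obtain ⟨e, he⟩ : ∃ e : K → M4 F, ∀ a, e a = ∑ t, ψ (t * -a) • M t := ⟨_, fun _ => rfl⟩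
  have hs : ∀ b, ∑ x, ψ (x * b) = if b = 0 then (Fintype.card K : F) else 0 := fun b => by
    simpa using AddChar.sum_mulShift b hψ
  have e1 : ∀ s a, M s * e a = ψ (s * a) • e a := fun s a => by
    simp only [he, Finset.mul_sum, Finset.smul_sum, Matrix.mul_smul, ← hM, smul_smul,
      ← AddChar.map_add_eq_mul]
    exact Fintype.sum_equiv (Equiv.addLeft s) _ _ fun t => by simp; congr 2; ring
  have e2 : ∀ a b, e b * e a = (if a - b = 0 then (Fintype.card K : F) else 0) • e a :=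
    fun a b => by
      rw [← hs, Finset.sum_smul, he b, Finset.sum_mul]
      refine Finset.sum_congr rfl fun t _ => ?_
      rw [Matrix.smul_mul, e1, smul_smul, ← AddChar.map_add_eq_mul]
      congr 2; ring
  obtain ⟨N, hN⟩ : ∃ N : Finset K, ∀ a, a ∈ N ↔ e a ≠ 0 :=
    ⟨Finset.univ.filter (e · ≠ 0), by simp⟩
  refine ⟨N, ?_, ?_, fun a => ?_, fun k hk D D' hD a => ?_⟩
  · have : ∀ a : N, ∃ v, e a *ᵥ v ≠ 0 := fun a => by
      by_contra! H
      exact (hN _).1 a.2 (Matrix.ext_of_mulVec_single fun i => by rw [H, zero_mulVec])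
    choose v hv using this
    have := (Fintype.linearIndependent_iff (R := F) (v := fun a => e a.1 *ᵥ v a)).2
      (fun c hc b => by
        have := congrArg (e b *ᵥ ·) hc
        simp only [mulVec_sum, mulVec_smul, mulVec_mulVec, e2, sub_eq_zero, smul_mulVec,
          ← Subtype.ext_iff, mulVec_zero] at this
        simpa [hK, hv b] using this) |>.fintype_card_le_finrank
    simpa using this
  · by_contra! H
    have e3 : ∑ a, e a = (Fintype.card K : F) • 1 := by
      simp only [he]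
      rw [Finset.sum_comm]
      simp only [← Finset.sum_smul, fun a b : K => show a * -b = b * -a by ring, hs]
      simp [h0]
    rw [Finset.sum_eq_single 0 (fun a _ h => by_contra fun h' => h (H a ((hN a).2 h')))
      (by simp)] at e3
    have := e1 t₀ 0
    rw [e3, Matrix.mul_smul, mul_zero, ψ.map_zero_eq_one, one_smul, mul_one] at this
    exact h1 (smul_right_injective _ hK this)
  · rw [hN, hN]
    refine mt fun h => ?_
    have : e a = adj (e (-a)) := by
      rw [he, he, adj_sum]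
      exact Fintype.sum_equiv (Equiv.neg K) _ _ fun t => by simp [adj_smul, ha]
    rw [this, h, adj_zero]
  · rw [hN, hN]
    refine mt fun h => ?_
    have : e a = D * e (k * a) * D' := by
      simp only [he, Finset.mul_sum, Finset.sum_mul, Matrix.mul_smul, Matrix.smul_mul, hD]
      exact (Fintype.sum_equiv (Equiv.mulLeft₀ k hk) _ _ fun t => by simp; congr 2; ring).symm
    rw [this, h, mul_zero, zero_mul]

/-- The weights of an additive group in cross characteristic. -/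
theorem weights (hc : ringChar F ≠ ringChar K) {u : K → G4 F} (hu : ∀ s t, u (s + t) = u s * u t)
    (hs : ∀ t, u t ∈ spGL 2 F) {t₀ : K} (h1 : u t₀ ≠ 1) :
    ∃ N : Finset K, N.card ≤ 4 ∧ (∃ a ∈ N, a ≠ 0) ∧ (∀ a ∈ N, -a ∈ N) ∧
      ∀ k ≠ 0, ∀ d : G4 F, (∀ t, d * u t * d⁻¹ = u (k * t)) → ∀ a ∈ N, k * a ∈ N := by
  let ψ := AddChar.FiniteField.primitiveChar K F hc
  let φ := (algebraMap F (CyclotomicField ψ.n F)).mapMatrix (m := I)
  have h0 : u 0 = 1 := by simpa using hu 0 0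
  obtain ⟨N, h2, h3, h4, h5⟩ := weights_aux ψ.prim (M := fun t => φ (u t).1) (t₀ := t₀) (by
      rw [← map_natCast (algebraMap F _), map_ne_zero]
      obtain ⟨n, hp, hn⟩ := FiniteField.card K (ringChar K)
      rw [hn, Nat.cast_pow]
      refine pow_ne_zero _ fun e => hc ?_
      exact (CharP.ringChar_of_prime_eq_zero hp e))
    (fun s t => by rw [hu, Units.val_mul, map_mul]) (by simp [h0]) (fun t => by
      rw [show u (-t) = (u t)⁻¹ from eq_inv_of_mul_eq_one_left (by rw [← hu, neg_add_cancel, h0]),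
        ← adj_eq_inv (hs t)]
      ext i j
      rcases i with i | i <;> rcases j with j | j <;> simp [φ, adj_apply])
    fun e => h1 (Units.ext (Matrix.map_injective (algebraMap F _).injective
      (e.trans (map_one φ).symm)))
  exact ⟨N, h2, h3, h4, fun k hk d hd => h5 k hk (φ d.1) (φ (d⁻¹).1) fun t => by
    rw [← map_mul, ← map_mul, ← hd]; rfl⟩

theorem weights_seven {K : Type*} [Field K] [CharP K 7] {N : Finset K} (h4 : N.card ≤ 4) {a : K}
    (ha : a ∈ N) (h0 : a ≠ 0) (h1 : ∀ a ∈ N, -a ∈ N) (h2 : ∀ a ∈ N, 2 * a ∈ N) : False := by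
  have h7 : (7 : K) = 0 := by exact_mod_cast CharP.cast_eq_zero K 7
  have : ({1, 2, 4, 5, 6} : Finset ℕ).card ≤ N.card :=
    Finset.card_le_card_of_injOn (fun j => (j : K) * a) (fun j hj => by
      simp only [Finset.coe_insert, Finset.coe_singleton, Set.mem_insert_iff,
        Set.mem_singleton_iff] at hj
      rcases hj with rfl | rfl | rfl | rfl | rfl <;> push_cast <;> rw [Finset.mem_coe]
      · simpa using ha
      · exact h2 _ ha
      · convert h2 _ (h2 _ ha) using 1; ring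
      · convert h1 _ (h2 _ ha) using 1; linear_combination a * h7
      · convert h1 _ ha using 1; linear_combination a * h7)
      fun i hi j hj e => CharP.natCast_injOn_Iio K 7 (by simp at hi ⊢; omega)
        (by simp at hj ⊢; omega) (mul_right_cancel₀ h0 e)
  simp at this
  omega

variable {G : Type*} [Group G] {P : Subgroup (G4 F)} {π : P →* G}

theorem neg_ne_self' (h2 : (2 : F) ≠ 0) (x : G4 F) : -x ≠ x := fun e =>
  x.ne_zero (smul_right_injective _ h2 (by
    simp only [two_smul, add_zero]; exact neg_eq_iff_add_eq_zero.1 (congrArg Units.val e)))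

theorem Cv.comm_of_odd (h : Cv P π) {x y : P} (hc : Commute (π x) (π y)) {k : ℕ} (hk : Odd k)
    (e : π x ^ k = 1) : Commute x.1 y.1 := by
  rcases h.eq_or (x := x) (y := y * x * y⁻¹) (by simp [← hc.eq]) with e1 | e1
  · exact (mul_inv_eq_iff_eq_mul.1 e1).symm
  · have e2 := congrArg (· ^ k) e1
    simp only [Subgroup.coe_mul, Subgroup.coe_inv, conj_pow, hk.neg_pow] at e2
    rcases (h.ker' (x ^ k)).1 (by rw [map_pow, e]) with e3 | e3 <;>
      rw [Subgroup.coe_pow] at e3 <;> rw [e3] at e2 <;>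
      exact absurd (by simpa [eq_comm] using e2) (neg_ne_self' h.h2 1)

theorem Cv.lsq_mul (h : Cv P π) {γ δ : G} (hc : Commute γ δ) {k : ℕ} (hk : Odd k)
    (e : γ ^ k = 1) : lsq π (γ * δ) = lsq π γ * lsq π δ := by
  obtain ⟨x, rfl⟩ := h.surj γ
  obtain ⟨y, rfl⟩ := h.surj δ
  rw [← map_mul, h.lsq_π, h.lsq_π, h.lsq_π, ← (h.comm_of_odd hc hk e).mul_pow]
  rfl

theorem Cv.lsq_add (h : Cv P π) (h2 : ringChar K ≠ 2) {v : K → G}
    (hv : ∀ s t, v (s + t) = v s * v t) (s t : K) :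
    lsq π (v (s + t)) = lsq π (v s) * lsq π (v t) := by
  rw [hv, h.lsq_mul (k := ringChar K) (by rw [Commute, SemiconjBy, ← hv, ← hv, add_comm])
    ((CharP.char_is_prime K _).odd_of_ne_two h2)
    (by rw [add_pow_eq hv, CharP.cast_eq_zero, zero_mul, add_zero_eq hv])]

theorem Cv.weights (h : Cv P π) (hc : ringChar F ≠ ringChar K) (h2 : ringChar K ≠ 2) {v : K → G}
    (hv : ∀ s t, v (s + t) = v s * v t) (h1 : v 1 ^ 2 ≠ 1) :
    ∃ N : Finset K, N.card ≤ 4 ∧ (∃ a ∈ N, a ≠ 0) ∧ (∀ a ∈ N, -a ∈ N) ∧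
      ∀ k ≠ 0, ∀ d : G, (∀ t, d * v t * d⁻¹ = v (k * t)) → ∀ a ∈ N, k * a ∈ N := by
  obtain ⟨N, h3, h4, h5, h6⟩ := Sp4O.weights hc (h.lsq_add h2 hv) (fun t => h.sp _) (t₀ := 1)
    fun e => h1 (by rw [← h.π_lsq, ← map_one π]; exact congrArg π (Subtype.ext e))
  refine ⟨N, h3, h4, h5, fun k hk d hd => ?_⟩
  obtain ⟨x, rfl⟩ := h.surj d
  exact h6 k hk x fun t => by rw [← h.lsq_conj, hd]

/-- An element of order seven conjugate to its square forces characteristic seven. -/
theorem Cv.seven (h : Cv P π) {g : G} (h7 : g ^ 7 = 1) (h1 : g ≠ 1) (hc : IsConj g (g ^ 2)) :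
    CharP F 7 := by
  have : Fact (Nat.Prime 7) := ⟨by norm_num⟩
  by_contra h0
  obtain ⟨d, hd⟩ := isConj_iff.1 hc
  obtain ⟨N, h3, ⟨a, ha, ha0⟩, h5, h6⟩ := h.weights (K := ZMod 7) (v := fun t => g ^ t.val)
    (fun e => h0 (ringChar.of_eq (e.trans (ZMod.ringChar_zmod_n 7))))
    (by rw [ZMod.ringChar_zmod_n]; norm_num)
    (fun s t => by rw [ZMod.val_add, ← pow_eq_pow_mod _ h7, pow_add]) fun e => h1 (by
      simpa using pow_gcd_eq_one.2 ⟨h7, (pow_mul g 1 2).trans e⟩)
  exact weights_seven h3 ha ha0 h5 (h6 2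
    (Ring.two_ne_zero (by rw [ZMod.ringChar_zmod_n]; norm_num)) d fun t => by
    rw [← conj_pow, hd, ZMod.val_mul, ← pow_eq_pow_mod _ h7, ← pow_mul]; rfl)

/-- The root group of `L₂(K)`. -/
def rt (t : K) : psl2 K := ⟨aff 1 t, aff_one_mem_psl2 t⟩

omit [Fintype K] in
theorem rt_add (s t : K) : rt (s + t) = rt s * rt t :=
  Subtype.ext (by simp [rt, aff_mul, add_comm])

omit [Fintype K] in
theorem rt_inj : Function.Injective (rt : K → psl2 K) := fun _ _ e =>
  (aff_inj.1 (congrArg Subtype.val e)).2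

omit [Fintype K] in
theorem rt_conj {k : K} (hk : k ≠ 0) : ∃ d, ∀ t, d * rt t * d⁻¹ = rt (k ^ 2 * t) :=
  ⟨⟨aff (Units.mk0 k hk ^ 2) 0, (aff_mem_psl2_iff _ _).2 ⟨k, by simp [pow_two]⟩⟩, fun t =>
    Subtype.ext ((aff_conj_transl (Units.mk0 k hk ^ 2) 0 t).trans (by simp [rt]))⟩

theorem Cv.cross {π : P →* psl2 K} (h : Cv P π) (hc : ringChar F ≠ ringChar K)
    (ho : Odd (Fintype.card K)) (h3 : 3 < Fintype.card K) :
    Fintype.card K = 5 ∨ Fintype.card K = 9 := by
  classical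
  have h2 : ringChar K ≠ 2 := fun h2 => by
    have := FiniteField.even_card_of_char_two h2
    have := Nat.odd_iff.1 ho
    omega
  obtain ⟨N, h4, ⟨a, ha, ha0⟩, h5, h6⟩ := h.weights hc h2 rt_add fun e => by
    rw [add_pow_eq rt_add, ← add_zero_eq rt_add] at e
    exact Ring.two_ne_zero h2 (by simpa using rt_inj e)
  have h7 : ∀ k ≠ 0, ∀ a ∈ N, k ^ 2 * a ∈ N := fun k hk =>
    (rt_conj hk).elim (h6 _ (pow_ne_zero 2 hk))
  have h8 := Finset.card_le_mul_card_image_of_maps_to (s := Finset.univ.erase (0 : K)) (t := N)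
    (f := fun k => k ^ 2 * a) (fun k hk => h7 k (Finset.ne_of_mem_erase hk) a ha) 2 fun b _ => by
      rcases (Finset.filter (fun k => k ^ 2 * a = b) (Finset.univ.erase 0)).eq_empty_or_nonempty
        with e | ⟨k, hk⟩
      · rw [e]; simp
      refine (Finset.card_le_card fun j hj => ?_).trans (Finset.card_le_two (a := k) (b := -k))
      simpa using sq_eq_sq_iff_eq_or_eq_neg.1 (mul_right_cancel₀ ha0
        ((Finset.mem_filter.1 hj).2.trans (Finset.mem_filter.1 hk).2.symm))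
  rw [Finset.card_erase_of_mem (Finset.mem_univ _), Finset.card_univ] at h8
  have h9 : Fintype.card K ≠ 7 := fun e => by
    have : CharP K 7 := charP_of_card_eq_prime e
    have e7 : (7 : K) = 0 := by exact_mod_cast CharP.cast_eq_zero K 7
    exact weights_seven h4 ha ha0 h5 fun a ha => by
      convert h7 3 (by exact_mod_cast (CharP.cast_eq_zero_iff K 7 3).not.2 (by norm_num)) a ha
        using 1
      linear_combination -a * e7
  obtain ⟨m, hm⟩ := ho
  omega

end Cfsg.Lib.Class.Sp4O
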