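import Cfsg.Agent.Class.Sp4O.T4C

/-! Regular unipotent elements; the groups `L₂(r)` in defining characteristic and `A₇`. -/

set_option autoImplicit false

namespace Cfsg.Lib.Class.Sp4O

open Matrix Module QuadraticMap Cfsg.Geo Cfsg.Lib.Class.Asch Cfsg.Lib.Class.Orth Cfsg.Lib.Mit

variable {F : Type*} [Field F]

section Reg

variable {ν : M4 F} {x : I → F} (h4 : ν * (ν * (ν * ν)) = 0) (hx : (ν * (ν * ν)) *ᵥ x ≠ 0)
include h4 hx

theorem reg_indep {a b c d : F}
    (h : a • x + b • ν *ᵥ x + c • (ν * ν) *ᵥ x + d • (ν * (ν * ν)) *ᵥ x = 0) :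
    a = 0 ∧ b = 0 ∧ c = 0 ∧ d = 0 := by
  have h1 := congrArg (ν *ᵥ ·) h
  have h2 := congrArg (fun y => ν *ᵥ ν *ᵥ y) h
  have h3 := congrArg (fun y => ν *ᵥ ν *ᵥ ν *ᵥ y) h
  simp only [mulVec_add, mulVec_smul, mulVec_mulVec, mul_assoc, h4, mul_zero, zero_mulVec,
    smul_zero, add_zero, mulVec_zero] at h1 h2 h3
  obtain rfl : a = 0 := by simpa [hx] using h3
  obtain rfl : b = 0 := by simpa [hx] using h2
  obtain rfl : c = 0 := by simpa [hx] using h1
  simpa [hx] using h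

theorem reg_span (y : I → F) : ∃ a b c d : F,
    y = a • x + b • ν *ᵥ x + c • (ν * ν) *ᵥ x + d • (ν * (ν * ν)) *ᵥ x := by
  have h := (Fintype.linearIndependent_iff (R := F)
    (v := ![x, ν *ᵥ x, (ν * ν) *ᵥ x, (ν * (ν * ν)) *ᵥ x])).2 fun c hc => by
      obtain ⟨h0, h1, h2, h3⟩ := reg_indep h4 hx (a := c 0) (b := c 1) (c := c 2) (d := c 3)
        (by simpa [Fin.sum_univ_four] using hc)
      intro i
      fin_cases i <;> assumption
  obtain ⟨c, hc⟩ := (Submodule.mem_span_range_iff_exists_fun F).1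
    ((h.span_eq_top_of_card_eq_finrank (by simp)).ge (Submodule.mem_top (x := y)))
  exact ⟨c 0, c 1, c 2, c 3, by simpa [Fin.sum_univ_four] using hc.symm⟩

theorem reg_ker {y : I → F} (hy : ν *ᵥ y = 0) : ∃ d : F, y = d • (ν * (ν * ν)) *ᵥ x := by
  obtain ⟨a, b, c, d, rfl⟩ := reg_span h4 hx y
  obtain ⟨-, rfl, rfl, rfl⟩ := reg_indep h4 hx (a := 0) (b := a) (c := b) (d := c) (by
    simpa [mulVec_add, mulVec_smul, h4] using hy)
  exact ⟨d, by simp⟩

theorem reg_ext {Y : M4 F} (h1 : Y * ν = 0) (h2 : Y *ᵥ x = 0) : Y = 0 :=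
  Matrix.ext_of_mulVec_single fun i => by
    obtain ⟨a, b, c, d, e⟩ := reg_span h4 hx (Pi.single i 1)
    rw [e]
    simp [mulVec_add, mulVec_smul, ← mul_assoc, h1, h2]

theorem reg_cube (y : I → F) : ∃ a : F, (ν * (ν * ν)) *ᵥ y = a • (ν * (ν * ν)) *ᵥ x := by
  obtain ⟨a, b, c, d, rfl⟩ := reg_span h4 hx y
  exact ⟨a, by simp [mulVec_add, mulVec_smul, mul_assoc, h4]⟩

end Reg

theorem exists_mulVec_ne {A : M4 F} (h : A ≠ 0) : ∃ x, A *ᵥ x ≠ 0 := by
  by_contra! H
  exact h (Matrix.ext_of_mulVec_single fun i => by rw [H, zero_mulVec])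

/-- The vector of a unipotent element is isotropic. -/
theorem unip_spec (p : ℕ) [hp : Fact p.Prime] [CharP F p] (h2 : (2 : F) ≠ 0) {u : G4 F}
    (hu : u ∈ spGL 2 F) (h : u ^ p = 1) : u.1.trace = 4 ∧ Jm u * Jm u = 0 ∧
      Jm u = (u⁻¹).1 * ((u.1 - 1) * (u.1 - 1)) ∧
      (u.1 - 1) * ((u.1 - 1) * ((u.1 - 1) * (u.1 - 1))) = 0 := by
  have ht : u.1.trace = 4 := frobenius_inj F p (by
    rw [frobenius_def, ← tr_pow_char p h2 hu, h, map_ofNat]; exact tr_one4)
  have h3 : (u.1 - 1) ^ p = 0 := by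
    rw [sub_pow_char_of_commute _ (Commute.one_right _), ← Units.val_pow_eq_pow_val, h]; simp
  have hc : Commute (u⁻¹).1 (u.1 - 1) :=
    ((Commute.refl u.1).units_inv_left).sub_right (Commute.one_right _)
  obtain ⟨c, e⟩ := Jm_sq h2 hu
  have e1 : Jm u ^ p = 0 := by
    rw [Jm_unip h2 ht, (hc.mul_right hc).mul_pow, (Commute.refl _).mul_pow, h3]; simp
  have e2 : Jm u * Jm u = 0 := by
    have := congrArg (· ^ p) e
    simp only [(Commute.refl _).mul_pow, e1, mul_zero, smul_pow, one_pow] at this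
    rw [e, pow_eq_zero_iff hp.out.ne_zero |>.1 (smul_one_inj (this.symm.trans (zero_smul _ _).symm)),
      zero_smul]
  refine ⟨ht, e2, Jm_unip h2 ht, ?_⟩
  rw [Jm_unip h2 ht, mul_assoc, Units.mul_right_eq_zero, ← mul_assoc, ← (hc.mul_right hc).eq,
    mul_assoc, Units.mul_right_eq_zero, mul_assoc] at e2
  exact e2

variable {G : Type*} [Group G] {P : Subgroup (G4 F)} {π : P →* G}

theorem NoQuad.eq_one (hq : NoQuad P) (h3 : (3 : F) ≠ 0) {u : G4 F} (hu : u ∈ P)
    (h : (u.1 - 1) * (u.1 - 1) = 0) : u = 1 := by_contra fun e => h3 (hq u hu u hu e h h h).1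

/-- The root groups in defining characteristic are small. -/
theorem card_le_of_add [Fintype F] {K : Type*} [Field K] [Fintype K] (p : ℕ) [Fact p.Prime]
    [CharP F p] (h2 : (2 : F) ≠ 0) (hP : P ≤ spGL 2 F) (hq : NoQuad P) (hK : 3 < Fintype.card K)
    {u : K → G4 F} (hu : ∀ s t, u (s + t) = u s * u t) (hm : ∀ t, u t ∈ P) (hp : ∀ t, u t ^ p = 1)
    (hi : Function.Injective u) : p ≠ 3 ∧ Fintype.card K ≤ Fintype.card F := by
  classical
  have h0 := add_zero_eq hu
  obtain ⟨ν, hν⟩ : ∃ ν : K → M4 F, ∀ t, ν t = (u t).1 - 1 := ⟨_, fun _ => rfl⟩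
  have e1 : ∀ s t, ν (s + t) = ν s + ν t + ν s * ν t := fun s t => by
    simp only [hν, hu, Units.val_mul]; noncomm_ring
  have c1 : ∀ s t, Commute (u s).1 (u t).1 := fun s t => by
    rw [Commute, SemiconjBy, ← Units.val_mul, ← Units.val_mul, ← hu, ← hu, add_comm]
  have c2 : ∀ s t, ν s * ν t = ν t * ν s := fun s t => by
    rw [hν, hν]; linear_combination (norm := noncomm_ring) (c1 s t).eq
  have h1 : u 1 ≠ 1 := fun e => one_ne_zero (hi (e.trans h0.symm))
  have key : ∀ {s t : K} {X : M4 F}, (∀ t, ν t * (ν t * X) = 0) → ν s * (ν t * X) = 0 :=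
    fun {s t X} h => smul_right_injective _ h2 (by
      have := h (s + t)
      rw [e1] at this
      simp only [two_smul, smul_zero]
      have a1 := h s
      have a2 := h t
      have a3 : ν s * (ν s * (ν t * X)) = 0 := by
        linear_combination (norm := noncomm_ring) ν t * a1 + ν s * c2 s t * X + c2 s t * ν s * X
      linear_combination (norm := noncomm_ring) this - a1 - a2 + c2 s t * X - a3 - a3 -
        ν s * a2 - ν s * a2 + ν s * c2 s t * X + c2 s t * ν t * X + ν s * c2 s t * ν t * X -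
        ν s * ν s * a2)
  have h3 : p ≠ 3 := by
    rintro rfl
    have e2 : ∀ t, ν t * (ν t * 1) = 0 := fun t => by
      rw [mul_one, hν]; exact quad_of_cube h2 (hP (hm t)) (hp t)
    have e3 : ∀ t, t ∈ ({0, 1, -1} : Finset K) := fun t => by
      have := (hq _ (hm 1) _ (hm t) h1 (by simpa [hν] using e2 1) (by simpa [hν] using e2 t)
        (by simpa [hν] using key (s := 1) (t := t) e2)).2
      rw [Mit.add_inv_eq hu, ← h0] at this
      simpa [hi.eq_iff] using this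
    have := (Finset.card_le_card (fun t _ => e3 t : Finset.univ ⊆ _)).trans Finset.card_le_three
    rw [Finset.card_univ] at this
    omega
  have h3' : (3 : F) ≠ 0 := fun e => h3 ((Nat.prime_dvd_prime_iff_eq Fact.out Nat.prime_three).1
    ((CharP.cast_eq_zero_iff F p 3).1 (by exact_mod_cast e)))
  have e4 := fun t => unip_spec p h2 (hP (hm t)) (hp t)
  simp only [← hν] at e4
  have hX : Jm (u 1) ≠ 0 := fun e => h1 (hq.eq_one h3' (hm 1) (by
    rwa [(e4 1).2.2.1, Units.mul_right_eq_zero, hν] at e))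
  have c3 : ∀ t, ν t * Jm (u 1) = Jm (u 1) * ν t := fun t => by
    have : Commute (ν t) ((u 1)⁻¹).1 := hν t ▸ (c1 t 1).units_inv_right.sub_left (.one_left _)
    rw [(e4 1).2.2.1]
    exact (this.mul_right (Commute.mul_right (c2 t 1) (c2 t 1))).eq
  have e5 : ∀ t, ν t * (ν t * Jm (u 1)) = 0 := fun t => by
    obtain ⟨c, hc⟩ := exists_smul_of_comm h2 (Jm_mem h2 (hP (hm 1))) (Jm_mem h2 (hP (hm t))) hX (by
      have : Commute (Jm (u 1)) (ν t) := (c3 t).symm
      rw [(e4 t).2.2.1]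
      refine (Commute.mul_right (Commute.units_inv_right ?_) (this.mul_right this)).eq
      rw [show (u t).1 = ν t + 1 by rw [hν, sub_add_cancel]]
      exact this.add_right (.one_right _))
    rw [← Units.mul_right_eq_zero (u t)⁻¹, ← mul_assoc (ν t), ← mul_assoc, ← (e4 t).2.2.1, hc,
      Matrix.smul_mul, (e4 1).2.1, smul_zero]
  have e6 : ∀ t, ν t * Jm (u 1) = 0 → t = 0 := fun t e => hi ((hq.eq_one h3' (hm t) (hν t ▸
    W_mul_eq_zero h2 (Jm_mem h2 (hP (hm 1))) hX e ((c3 t).symm.trans e))).trans h0.symm)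
  obtain ⟨x, hx⟩ := exists_mulVec_ne (A := ν 1 * (ν 1 * ν 1)) fun e => one_ne_zero (e6 1 (by
    rw [c3, (e4 1).2.2.1, mul_assoc, mul_assoc, e, mul_zero]))
  choose d hd using fun t => reg_ker (e4 1).2.2.2 hx (y := (ν t * Jm (u 1)) *ᵥ x) (by
    rw [mulVec_mulVec, key e5, zero_mulVec])
  refine ⟨h3, Fintype.card_le_of_injective d fun s t e => sub_eq_zero.1 (e6 _ ?_)⟩
  refine reg_ext (e4 1).2.2.2 hx (by rw [mul_assoc, ← c3, key e5]) ?_
  have := hd (s - t + t)
  rw [e1, add_mul, add_mul, mul_assoc, key e5, add_zero, add_mulVec, sub_add_cancel, hd t, e] at this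
  simpa using this

theorem Cv.defining [Fintype F] {K : Type*} [Field K] [Fintype K] {π : P →* psl2 K} (h : Cv P π)
    (hq : NoQuad P) (p : ℕ) [hp : Fact p.Prime] [CharP F p] [CharP K p] (hK : 3 < Fintype.card K) :
    p ≠ 3 ∧ Fintype.card K = Fintype.card F := by
  have hp2 : p ≠ 2 := by rintro rfl; exact h.h2 (by exact_mod_cast CharP.cast_eq_zero F 2)
  have h2 : ringChar K ≠ 2 := by rwa [ringChar.eq K p]
  obtain ⟨h3, h4⟩ := card_le_of_add p h.h2 h.le hq hK (h.lsq_add h2 rt_add) (fun t => lsq_mem _)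
    (fun t => h.lsq_pow_eq_one (by
      rw [add_pow_eq rt_add, CharP.cast_eq_zero, zero_mul, add_zero_eq rt_add])) fun s t e => by
      have := (h.π_lsq (rt s)).symm.trans ((congrArg π (Subtype.ext e)).trans (h.π_lsq (rt t)))
      rw [add_pow_eq rt_add, add_pow_eq rt_add] at this
      exact mul_left_cancel₀ (by simpa using Ring.two_ne_zero h2) (rt_inj this)
  refine ⟨h3, le_antisymm h4 ?_⟩
  obtain ⟨n, -, hn⟩ := FiniteField.card K p
  rw [hn]
  refine h.card_le p n.ne_zero fun g hg => ?_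
  by_cases e : π ⟨g, hg⟩ ^ p = 1
  · rcases tr_of_pow_char p h.h2 (h.le hg) ((h.ker' (⟨g, hg⟩ ^ p)).1 (by rw [map_pow, e]))
      with e | e <;> rw [e]
    exacts [by simpa using int_pow_char (F := F) p 4 n, by simpa using int_pow_char (F := F) p (-4) n]
  obtain ⟨-, m, hm, e1⟩ := l2_semisimple p h2 e
  have e2 : g ^ (2 * m) = 1 := by
    rw [pow_mul, ← h.lsq_pow_eq_one e1, h.lsq_π]
  rw [← tr_pow_char_pow p h.h2 (h.le hg), ← hn, ← Nat.card_eq_fintype_card]
  rcases hm with hm | hm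
  · rw [← hm, pow_succ, e2, one_mul]
  · rw [hm, pow_succ] at e2
    rw [eq_inv_of_mul_eq_one_left e2, trace_inv_eq (h.le hg)]

end Cfsg.Lib.Class.Sp4O
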