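import Cfsg.Agent.Class.Sp4O.T4D

/-! The double cover of `A₇` in `Sp₄(F)`. -/

set_option autoImplicit false

namespace Cfsg.Lib.Class.Sp4O

open Matrix Cfsg.Geo Cfsg.Lib.Class.Asch Cfsg.Lib.Mit Equiv Equiv.Perm

theorem alt7_six {g : Perm (Fin 7)} (hs : sign g = 1) (h6 : g ^ 6 = 1) (h3 : g ^ 3 ≠ 1) :
    ∃ z : Perm (Fin 7), sign z = 1 ∧ z * g = g * z ∧ z ^ 2 = 1 ∧ z ≠ 1 ∧ z ≠ g ^ 3 := by
  have key : g.cycleType = {2, 2} ∨ g.cycleType = {2, 2, 3} := by
    rw [← orderOf_dvd_iff_pow_eq_one, ← lcm_cycleType, Multiset.lcm_dvd] at h6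
    rw [Ne, ← orderOf_dvd_iff_pow_eq_one, ← lcm_cycleType, Multiset.lcm_dvd] at h3
    rw [sign_of_cycleType] at hs
    have h1 := @two_le_of_mem_cycleType _ _ _ g
    have h2 := g.sum_cycleType_le
    generalize g.cycleType = s at *
    have h4 := Multiset.card_nsmul_le_sum fun x hx => h1 (n := x) hx
    have h5 : ∀ m ∈ s, m = 2 ∨ m = 3 ∨ m = 6 := fun m hm => by
      have := Nat.le_of_dvd (by norm_num) (h6 m hm)
      have := h6 m hm
      have := h1 hm
      interval_cases m <;> first | omega | contradiction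
    simp only [Fintype.card_fin, smul_eq_mul] at h2 h4
    obtain h | h | h | h : s.card = 0 ∨ s.card = 1 ∨ s.card = 2 ∨ s.card = 3 := by omega
    · simp_all
    · obtain ⟨a, rfl⟩ := Multiset.card_eq_one.1 h
      obtain rfl | rfl | rfl := h5 a (by simp) <;> revert hs h3 <;> decide
    · obtain ⟨a, b, rfl⟩ := Multiset.card_eq_two.1 h
      obtain rfl | rfl | rfl := h5 a (by simp) <;> obtain rfl | rfl | rfl := h5 b (by simp) <;>
        revert hs h3 h2 <;> decide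
    · obtain ⟨a, b, c, rfl⟩ := Multiset.card_eq_three.1 h
      obtain rfl | rfl | rfl := h5 a (by simp) <;> obtain rfl | rfl | rfl := h5 b (by simp) <;>
        obtain rfl | rfl | rfl := h5 c (by simp) <;> revert hs h3 h2 <;> decide
  obtain ⟨g₀, h0, k, rfl⟩ : ∃ g₀ ∈ [swap 0 1 * swap 2 3, swap 0 1 * swap 2 3 * swap 4 5 * swap 5 6],
      ∃ k : Perm (Fin 7), k * g₀ * k⁻¹ = g := by
    rcases key with h | h
    · exact ⟨_, .head _, isConj_iff.1 (isConj_iff_cycleType_eq.2 (h ▸ by decide +kernel))⟩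
    · exact ⟨_, .tail _ (.head _), isConj_iff.1 (isConj_iff_cycleType_eq.2 (h ▸ by decide +kernel))⟩
  have : swap 0 2 * swap 1 3 * g₀ = g₀ * (swap 0 2 * swap 1 3) ∧ swap 0 2 * swap 1 3 ≠ g₀ ^ 3 := by
    obtain rfl | rfl : _ ∨ _ := by simpa only [List.mem_cons, List.not_mem_nil, or_false] using h0
    all_goals decide
  refine ⟨k * (swap 0 2 * swap 1 3) * k⁻¹, by simp, by rw [conj_mul, conj_mul, this.1], ?_, ?_, ?_⟩
  · rw [conj_pow, show (swap 0 2 * swap 1 3 : Perm (Fin 7)) ^ 2 = 1 by decide]; simp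
  · rw [Ne, conj_eq_one_iff]; decide
  · rw [conj_pow, Ne, mul_left_inj, mul_right_inj]; exact this.2

theorem alt7_five' {g : alternatingGroup (Fin 7)} (h : g ^ 5 = 1) : IsConj g (g ^ 2) := by
  have : Fact (Nat.Prime 5) := ⟨by norm_num⟩
  by_cases h1 : g = 1
  · simp [h1]
  have h2 := orderOf_eq_prime (x := g.1) (congrArg Subtype.val h) fun e => h1 (Subtype.ext e)
  have hc := isCycle_of_prime_order' (σ := g.1) (by rw [h2]; norm_num) (by rw [h2]; simp)
  have h3 : (g.1 ^ 2).IsCycle := hc.pow_iff.2 (by rw [h2]; norm_num)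
  exact alternatingGroup.isConj_of (hc.isConj h3 (by
    rw [Subgroup.coe_pow, ← h3.orderOf, ← hc.orderOf, Nat.Coprime.orderOf_pow]; rw [h2]; norm_num))
    (by rw [← hc.orderOf, h2]; simp)

variable {F : Type*} [Field F] {G : Type*} [Group G] {P : Subgroup (G4 F)} {π : P →* G}

/-- An element centralised by two involutions, one of them a power, has trace zero. -/
theorem Cv.tr_eq_zero (h : Cv P π) {x : P} {z : G} {k : ℕ} (hc : z * π x = π x * z) (h1 : z ^ 2 = 1)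
    (h0 : z ≠ 1) (h3 : z ≠ π x ^ k) (e : x.1 ^ k * x.1 ^ k = -1) : x.1.1.trace = 0 := by
  obtain ⟨y, rfl⟩ := h.surj z
  rcases h.eq_or (x := x) (y := y * x * y⁻¹) (by simp [hc]) with e1 | e1
  · have c : Commute y.1 (x.1 ^ k) := Commute.pow_right (mul_inv_eq_iff_eq_mul.1 e1) k
    have e2 := (h.ker' (y * x ^ k)).2 (h.inv _ (y * x ^ k).2 (by
      change y.1 * x.1 ^ k * (y.1 * x.1 ^ k) = 1
      rw [c.symm.mul_mul_mul_comm, h.sq_eq h1 h0, e]; simp))
    rw [map_mul, map_pow] at e2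
    exact absurd ((eq_inv_of_mul_eq_one_left (by rw [← pow_two, h1])).trans
      (eq_inv_of_mul_eq_one_right e2).symm) h3
  · have := (trace_units_conj y.1 x.1.1).symm.trans (congrArg (fun g : G4 F => g.1.trace) e1)
    refine mul_left_cancel₀ h.h2 ?_
    simp only [Units.val_neg, trace_neg] at this
    linear_combination this

theorem Cv.alt7 [Fintype F] {π : P →* alternatingGroup (Fin 7)} (h : Cv P π) :
    Fintype.card F = 7 := by
  have : Fact (Nat.Prime 7) := ⟨by norm_num⟩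
  have := h.seven (g := ⟨finRotate 7, mem_alternatingGroup.2 (by decide)⟩) (by decide) (by decide)
    (isConj_iff.2 ⟨⟨swap 1 2 * swap 2 4 * swap 3 6 * swap 6 5, mem_alternatingGroup.2 (by decide)⟩,
      by decide⟩)
  refine h.card_eq 7 fun g hg => ?_
  rw [← tr_pow_char 7 h.h2 (h.le hg)]
  have sq : ∀ k, π ⟨g, hg⟩ ^ k = 1 → (g ^ 2) ^ k = 1 := fun k e => by
    rw [← h.lsq_pow_eq_one e, h.lsq_π]
  rcases alt7_cases (π ⟨g, hg⟩) with e | ⟨e, -⟩ | e | ⟨e, -⟩
  · rcases (h.ker' (⟨g, hg⟩ ^ 6)).1 (by rw [map_pow, e]) with e1 | e1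
    · rw [pow_succ, show g ^ 6 = 1 from e1, one_mul]
    have e2 : π ⟨g, hg⟩ ^ 3 ≠ 1 := fun e2 => neg_ne_self' h.h2 1
      (e1.symm.trans ((pow_mul g 2 3).trans (sq 3 e2)))
    obtain ⟨z, h1, h2, h3, h4, h5⟩ := alt7_six (π ⟨g, hg⟩).2 (congrArg Subtype.val e)
      fun e => e2 (Subtype.ext e)
    have := h.tr_eq_zero (x := ⟨g, hg⟩) (z := ⟨z, h1⟩) (k := 3) (Subtype.ext h2) (Subtype.ext h3)
      (fun e => h4 (congrArg Subtype.val e)) (fun e => h5 (congrArg Subtype.val e))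
      ((pow_add g 3 3).symm.trans e1)
    rw [pow_succ, show g ^ 6 = -1 from e1]
    simp [show g.1.trace = 0 from this]
  · rw [eq_inv_of_mul_eq_one_left (a := g ^ 7) (b := g) (by rw [← sq 4 e]; group),
      trace_inv_eq (h.le hg)]
  · have e1 := h.tr_lsq (alt7_five' (g := π ⟨g, hg⟩ ^ 3) (by rw [← pow_mul, mul_comm, pow_mul, e, one_pow]))
    have e2 := h.lsq_pow_eq_one (γ := π ⟨g, hg⟩ ^ 3) (k := 5) (by
      rw [← pow_mul, mul_comm, pow_mul, e, one_pow])
    rw [h.lsq_pow] at e1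
    rcases h.eq_or_lsq (k := 2) e with e3 | e3 <;> generalize lsq π _ = y at * <;>
      obtain rfl : g = _ := e3
    · rw [pow_add g 5 2, e2, one_mul, e1]
    · rw [Odd.neg_pow (by decide), pow_add y 5 2, e2, one_mul]
      simp only [Units.val_neg, trace_neg, e1]
  · rw [tr_pow_char 7 h.h2 (h.le hg)]
    rcases tr_of_pow_char 7 h.h2 (h.le hg) ((h.ker' (⟨g, hg⟩ ^ 7)).1 (by rw [map_pow, e]))
      with e | e <;> rw [e]
    exacts [by simpa using int_pow_char (F := F) 7 4 1, by simpa using int_pow_char (F := F) 7 (-4) 1]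

end Cfsg.Lib.Class.Sp4O
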