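import Cfsg.Agent.Class.Sp4O.T4D
import Cfsg.Agent.HN.Carm

/-! Elements of order five and frames of six vectors; the double cover of `A₅`. -/

set_option autoImplicit false

namespace Cfsg.Lib.Class.Sp4O

open Matrix QuadraticMap Cfsg.Geo Cfsg.Lib.Class.Asch Cfsg.Lib.Class.Orth Cfsg.Lib.Mit Equiv
  Equiv.Perm

/-- The value of a positive word in two letters. -/
def wd {M : Type*} [Monoid M] (a b : M) : List Bool → M
  | [] => 1
  | c :: l => (if c then a else b) * wd a b l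

theorem mem_of_words {n : ℕ} {a b : alternatingGroup (Fin n)} {α β : Fin n} (hab : α ≠ β)
    (S : Finset (Fin n)) (L : List (List Bool))
    (h : ∀ i ∈ S, i ≠ α → i ≠ β → ∃ l ∈ L, Known.c3 i α β = (wd a b l).1)
    {K : Subgroup (alternatingGroup (Fin n))} (ha : a ∈ K) (hb : b ∈ K)
    {σ : alternatingGroup (Fin n)} (hσ : ∀ x ∉ S, σ.1 x = x) : σ ∈ K :=
  HN.mem_of_ac3 (P := S) hab (fun i hi h1 h2 => by
    obtain ⟨l, -, e⟩ := h i hi h1 h2
    rw [show HN.ac3 i α β h1 h2 = wd a b l from Subtype.ext e]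
    clear e
    induction l with
    | nil => exact one_mem _
    | cons c l ih => exact mul_mem (by cases c; exacts [hb, ha]) ih) hσ

variable {F : Type*} [Field F] {G : Type*} [Group G] {P H : Subgroup (G4 F)} {π : P →* G}

theorem sm_conj (x y : G4 F) : sm (x * y * x⁻¹) = x.1 * sm y * (x⁻¹).1 := by
  simp [sm, mul_add, add_mul, mul_assoc]

theorem tr_sm_mul {x y : G4 F} (hx : x ∈ spGL 2 F) (hy : y ∈ spGL 2 F) :
    (sm x * sm y).trace = 2 * (x * y).1.trace + 2 * (x * y⁻¹).1.trace := by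
  have e1 := trace_inv_eq (mul_mem hx hy)
  have e2 := trace_inv_eq (mul_mem hx (inv_mem hy))
  simp only [_root_.mul_inv_rev, inv_inv, Units.val_mul] at e1 e2
  simp only [sm, mul_add, add_mul, trace_add, Units.val_mul]
  rw [trace_mul_comm (x⁻¹).1, trace_mul_comm (x⁻¹).1, e1, e2]
  ring

theorem tr_mul_W (h2 : (2 : F) ≠ 0) (X Y : W F) : (X.1 * Y.1).trace = 2 * polar (Qw F) X Y := by
  have := congrArg trace (anticomm h2 X Y)
  rw [trace_add, trace_mul_comm Y.1, trace_smul, tr_one4, smul_eq_mul] at this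
  exact mul_left_cancel₀ h2 (by linear_combination this)

theorem Jm_pow_two (h2 : (2 : F) ≠ 0) {g : G4 F} (hg : g ∈ spGL 2 F) :
    Jm (g ^ 2) = g.1.trace • Jm g := by
  obtain ⟨c, hc⟩ := Jm_sq h2 hg
  have e := sm_sq g
  obtain ⟨m, hm⟩ : ∃ m, g.1.trace = 2 * m := ⟨g.1.trace / 2, by field_simp⟩
  simp only [sm_eq, hm, mul_div_cancel_left₀ _ h2, mul_add, add_mul, hc, Matrix.mul_smul,
    Matrix.smul_mul, mul_one, one_mul] at e
  have e1 : Jm (g ^ 2) - g.1.trace • Jm g = (c + m * m - (g ^ 2).1.trace / 2 - 2) • 1 := by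
    rw [hm]; linear_combination (norm := module) -e
  have e2 := sub_mem (Jm_mem h2 (pow_mem hg 2)) (Submodule.smul_mem _ g.1.trace (Jm_mem h2 hg))
  rw [e1] at e2
  rw [← sub_eq_zero, e1, eq_zero_of_smul_one_mem h2 e2, zero_smul]

theorem five_coeff (h2 : (2 : F) ≠ 0) {y : G4 F} (hy : y ∈ spGL 2 F) (h5 : y ^ 5 = 1)
    (h0 : Jm y ≠ 0) {m c : F} (hm : y.1.trace = 2 * m) (hc : Jm y * Jm y = c • 1) :
    3 * m ^ 2 + c - 2 * m - 3 = 0 ∧ m ^ 3 + 3 * m * c - m ^ 2 - c - 3 * m + 2 = 0 := by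
  have e := sm_mul_pow y 1
  rw [show y ^ (1 + 2) = (y ^ 2)⁻¹ from eq_inv_of_mul_eq_one_left (by rw [← pow_add, h5]), sm_inv,
    eq_sub_of_add_eq (sm_sq y).symm, pow_one, sm_eq, hm, mul_div_cancel_left₀ _ h2] at e
  simp only [mul_add, add_mul, mul_sub, hc, Matrix.mul_smul, Matrix.smul_mul, mul_one, one_mul] at e
  exact quad_coeff h2 (Jm_mem h2 hy) h0 (by linear_combination (norm := module) e)

theorem polar_two (X Y : W F) :
    polar (Qw F) ((2 : F) • X) ((2 : F) • Y) = 4 * polar (Qw F) X Y := by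
  rw [polar_smul_left', polar_smul_right']; ring

namespace Cv

variable (h : Cv P π)
include h

theorem tri {α β : G} (h1 : α ^ 2 = 1) (h0 : α ≠ 1) (h3 : β ^ 3 = 1) (h5 : (α * β) ^ 5 = 1) :
    ∃ a b : P, π a = α ∧ π b = β ∧ a.1 * a.1 = -1 ∧ lsq π (β ^ 2) = b ∧
      lsq π ((α * β) ^ 3) = a.1 * b.1 := by
  have e1 : π ⟨lsq π _, lsq_mem (β ^ 2)⟩ = β := by rw [h.π_lsq, ← pow_mul, pow_succ, h3, one_mul]
  have e2 : π (⟨lsq π _, lsq_mem ((α * β) ^ 3)⟩ * ⟨lsq π _, lsq_mem (β ^ 2)⟩⁻¹) = α := by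
    rw [map_mul, map_inv, e1, h.π_lsq, ← pow_mul, pow_succ, h5, one_mul, mul_inv_cancel_right]
  exact ⟨_, _, e2, e1, h.sq_eq (by rw [e2, h1]) (by rwa [e2]), rfl, by simp⟩

theorem V_sq (γ : G) : h.V (γ ^ 2) = (lsq π γ).1.trace • h.V γ :=
  Subtype.ext (by rw [V_val, h.lsq_pow, Jm_pow_two h.h2 (h.sp γ)]; rfl)

/-- The stabiliser of a vector. -/
noncomputable def stabG (X : W F) : Subgroup G := (MulAction.stabilizer (O (Qw F)) X).comap h.act

theorem mem_stabG {X : W F} {g : G} : g ∈ h.stabG X ↔ (h.act g).1 X = X := Iff.rfl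

theorem gram {n : ℕ} {w : Fin (n + 2) → W F} (hs : ∑ i, w i = 0)
    (ht : ∀ i j, i ≠ j → ∃ x, (h.act x).1 (w 0) = w i ∧ (h.act x).1 (w 1) = w j) :
    (∀ i j, polar (Qw F) (w i) (w j) =
      if i = j then 2 * Qw F (w 0) else polar (Qw F) (w 0) (w 1)) ∧
      2 * Qw F (w 0) + (n + 1) * polar (Qw F) (w 0) (w 1) = 0 := by
  have key : ∀ i j, polar (Qw F) (w i) (w j) =
      if i = j then 2 * Qw F (w 0) else polar (Qw F) (w 0) (w 1) := fun i j => by
    split_ifs with e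
    · obtain ⟨k, hk⟩ := exists_ne i
      obtain ⟨x, h1, -⟩ := ht i k hk.symm
      rw [← e, ← h1, O_polar, polar_self']
    · obtain ⟨x, h1, h2⟩ := ht i j e
      rw [← h1, ← h2, O_polar]
  refine ⟨key, ?_⟩
  have := map_sum (polarBilin (Qw F) (w 0)) w Finset.univ
  rw [hs, map_zero, Fin.sum_univ_succ] at this
  simp only [polarBilin_apply_apply] at this
  rw [polar_self', Finset.sum_congr rfl fun i _ => (key 0 _).trans
    (if_neg (Fin.succ_ne_zero i).symm)] at this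
  simpa using this.symm

theorem rf (hH : IsMaximalIn (spGL 2 F) H) (hP : P ≤ H) {ι : Type*} [DecidableEq ι] [Finite ι]
    {u : ι → W F} {κ : F} {f : ι → F} (hf : Fr u κ f)
    (hi : ∀ g : spGL 2 F, g.1 ∈ H → ∀ a b, a ≠ b →
      ∃ c d, c ≠ d ∧ (rho g).1 (u a - u b) = u c - u d) {a b c d : ι} (e : a ≠ b)
    (e' : c ≠ d) : ∃ g : spGL 2 F, g.1 ∈ H ∧ g.1.1 = κ⁻¹ • ((u a - u b).1 * (u c - u d).1) ∧
      rho g = refl (Qw F) (u a - u b) * refl (Qw F) (u c - u d) :=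
  hf.mem hH (h.span_top (by
    rintro g _ ⟨a, b, e, rfl⟩
    obtain ⟨x, rfl⟩ := h.surj g
    obtain ⟨c, d, e1, e2⟩ := hi ⟨x, h.le x.2⟩ (hP x.2) a b e
    exact Submodule.subset_span ⟨c, d, e1, h.act_π x ▸ e2⟩) ⟨a, b, e, rfl⟩ fun e0 =>
      hf.ne (by rw [← hf.norm e, e0, map_zero])) hi e e'

end Cv

/-- An involution of `A₅`. -/
def a5a : alternatingGroup (Fin 5) := ⟨swap 0 3 * swap 1 4, mem_alternatingGroup.2 (by decide)⟩
/-- A three-cycle. -/
def a5b : alternatingGroup (Fin 5) := ⟨swap 0 1 * swap 1 2, mem_alternatingGroup.2 (by decide)⟩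
/-- Generators of the six subgroups of order five. -/
def a5c (i : Fin 6) : alternatingGroup (Fin 5) :=
  ![1, a5a, (a5a * a5b) ^ 3 * a5a, (a5a * a5b) ^ 6 * a5a, (a5a * a5b) ^ 9 * a5a,
    (a5a * a5b) ^ 12 * a5a] i * (a5a * a5b) ^ 3 * (![1, a5a, (a5a * a5b) ^ 3 * a5a,
      (a5a * a5b) ^ 6 * a5a, (a5a * a5b) ^ 9 * a5a, (a5a * a5b) ^ 12 * a5a] i)⁻¹

theorem a5_gen {K : Subgroup (alternatingGroup (Fin 5))} (ha : a5a ∈ K) (hb : a5b ∈ K) : K = ⊤ :=
  eq_top_iff.2 fun _ _ => mem_of_words (α := 0) (β := 1) (by decide) Finset.univ [[false],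
    [true, false, true, false, true, false, false, true],
    [true, false, true, false, false, true, false, false]] (by decide) ha hb (by simp)

theorem a5_gen' {K : Subgroup (alternatingGroup (Fin 5))} (ha : a5c 0 ∈ K) (hb : a5c 1 ∈ K) :
    K = ⊤ :=
  eq_top_iff.2 fun _ _ => mem_of_words (α := 0) (β := 1) (by decide) Finset.univ
    [[true, true, true, false, false, false], [true, false, false], [true, true, false]]
    (by decide +kernel) ha hb (by simp)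

theorem a5_five : ∀ z : alternatingGroup (Fin 5), z ^ 5 = 1 → z ≠ 1 → ∃ j,
    (z = a5c j ∨ z = (a5c j)⁻¹) ∨ z = a5c j ^ 2 ∨ z = (a5c j ^ 2)⁻¹ := by decide +kernel

theorem a5_trans : ∀ i j, i ≠ j → ∃ x : alternatingGroup (Fin 5),
    (x * a5c 0 * x⁻¹ = a5c i ∨ x * a5c 0 * x⁻¹ = (a5c i)⁻¹) ∧
      (x * a5c 1 * x⁻¹ = a5c j ∨ x * a5c 1 * x⁻¹ = (a5c j)⁻¹) := by decide +kernel

theorem a5_perm : ∀ x ∈ [a5a, a5b], ∃ σ ∈ [swap 0 1 * swap 3 4,
    swap 0 1 * swap 1 4 * swap 2 3 * swap 3 5], ∀ i : Fin 6,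
      x * a5c i * x⁻¹ = a5c (σ i) ∨ x * a5c i * x⁻¹ = (a5c (σ i))⁻¹ := by decide +kernel

theorem pair_tr {a b : G4 F} (ha : a ∈ spGL 2 F) (hb : b ∈ spGL 2 F) (a2 : a * a = -1)
    (b3 : b ^ 3 = 1) (h5 : (a * b) ^ 5 = 1) : (sm (a * b) * sm (a * (a * b) * a⁻¹)).trace =
      -2 * b.1.trace - 2 * (a * b).1.trace := by
  have a1 : a⁻¹ = -a := inv_eq_of_mul_eq_one_right (by rw [mul_neg, a2, neg_neg])
  have b1 : b⁻¹ = b * b := inv_eq_of_mul_eq_one_right (by rw [← pow_three, b3])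
  have e1 : a * (a * b) * a⁻¹ = b * a := by rw [← mul_assoc, a2, a1]; simp
  have e2 : a * b * (b * a) = -(a * b⁻¹ * a⁻¹) := by simp [a1, b1, mul_assoc]
  have e3 : (a * b)⁻¹ * b * ((a * b) ^ 2)⁻¹ = b * a :=
    calc _ = b * (b ^ 3)⁻¹ * b * (a * a)⁻¹ * b⁻¹ * a⁻¹ := by
          simp only [pow_two, _root_.mul_inv_rev]; group
      _ = _ := by rw [a2, a1, b3]; simp
  have e4 : a * b * (b * a)⁻¹ = -(((a * b) ^ 2)⁻¹ * (b * (a * b) * b⁻¹) * ((a * b) ^ 2)⁻¹⁻¹) :=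
    calc _ = -((a * b) ^ 2 * b) := by rw [_root_.mul_inv_rev, a1, b1]; simp [pow_two, mul_assoc]
      _ = -(((a * b) ^ 2)⁻¹ * ((a * b) ^ 5 * ((a * b)⁻¹ * b * ((a * b) ^ 2)⁻¹)) * (a * b) ^ 2) := by
        generalize a * b = y; group
      _ = _ := by rw [h5, e3]; simp [mul_assoc]
  rw [e1, tr_sm_mul (mul_mem ha hb) (mul_mem hb ha), e2, e4, Units.val_neg, Units.val_neg,
    trace_neg, trace_neg]
  have t : ∀ x y : G4 F, (x * y * x⁻¹).1.trace = y.1.trace := fun x y => trace_units_conj x y.1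
  rw [t, t, t, trace_inv_eq hb]
  ring

theorem Cv.V_eq (h : Cv P π) {γ δ : G} (e : γ = δ ∨ γ = δ⁻¹) : h.V γ = h.V δ := by
  rcases e with rfl | rfl
  exacts [rfl, h.V_inv δ]

theorem three_ne_of_cube (h2 : (2 : F) ≠ 0) {b : G4 F} (hb : b ∈ spGL 2 F) (b3 : b ^ 3 = 1)
    (h : ∀ c : F, sm b ≠ c • 1) : (3 : F) ≠ 0 := fun h3 => by
  have : CharP F 3 := (CharP.charP_iff_prime_eq_zero (by norm_num)).2 (by exact_mod_cast h3)
  refine h 2 ((Units.mul_right_inj b).1 ?_)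
  rw [sm, mul_add, Units.mul_inv, Matrix.mul_smul, two_smul]
  linear_combination (norm := noncomm_ring) quad_of_cube h2 hb b3

theorem Cv.alt5 {π : P →* alternatingGroup (Fin 5)} (h : Cv P π) (hH : IsMaximalIn (spGL 2 F) H)
    (hP : P ≤ H) (hn : NrmG H P) : False := by
  have h2 := h.h2
  obtain ⟨a, b, ea, eb, a2, b3, e5⟩ := h.tri (α := a5a) (β := a5b) (by decide) (by decide)
    (by decide) (by decide +kernel)
  have hb3 : b.1 ^ 3 = 1 := b3 ▸ h.lsq_pow_eq_one (by decide)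
  have h5 : (a.1 * b.1) ^ 5 = 1 := e5 ▸ h.lsq_pow_eq_one (by decide +kernel)
  have q1 : ∀ c : F, sm b.1 ≠ c • 1 := fun c e => h.quad (sm_of_sq a2) e fun K h1 h2 =>
    a5_gen (ea ▸ h1) (eb ▸ h2)
  have h3 := three_ne_of_cube h2 (h.le b.2) hb3 q1
  have tb := ((cube_cases h2 h3 (h.le b.2) hb3).resolve_left fun e =>
    q1 2 (by rw [e, sm_one])).resolve_left (q1 _)
  have hab : a.1 * b.1 ∈ spGL 2 F := h.le (a * b).2
  have hJ : Jm (a.1 * b.1) ≠ 0 := fun e => h.quad (b := a * b) (sm_of_sq a2)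
    ((sm_eq _).trans (by rw [Subgroup.coe_mul, e, zero_add])) fun K h1 h2 =>
      a5_gen (ea ▸ h1) (eb ▸ (K.mul_mem_cancel_left h1).1 (map_mul π a b ▸ h2))
  have l0 : lsq π (a5c 0) = a.1 * b.1 := (congrArg (lsq π) (by decide +kernel)).trans e5
  have l1 : lsq π (a5c 1) = a.1 * (a.1 * b.1) * a.1⁻¹ := by
    rw [← l0, ← h.lsq_conj, ea]; exact congrArg (lsq π) (by decide +kernel)
  obtain ⟨m, hm⟩ : ∃ m, (a.1 * b.1).1.trace = 2 * m := ⟨(a.1 * b.1).1.trace / 2, by field_simp⟩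
  have tc : ∀ i, (lsq π (a5c i)).1.trace = 2 * m := fun i => by
    rw [← hm, ← e5]; exact h.tr_lsq (isConj_iff.2 ⟨_, rfl⟩)
  obtain ⟨g1, g2⟩ := h.gram (w := fun i => h.V (a5c i)) (h.fix' fun g => by
      have key : ∀ x ∈ [a5a, a5b], x ∈ h.stabG (∑ i, h.V (a5c i)) := fun x hx => by
        obtain ⟨σ, -, hσ⟩ := a5_perm x hx
        rw [h.mem_stabG, map_sum, ← Equiv.sum_comp σ (fun i => h.V (a5c i))]
        exact Finset.sum_congr rfl fun i _ => (h.act_V _ _).trans (h.V_eq (hσ i))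
      exact (a5_gen (key _ (by simp)) (key _ (by simp))).ge (Subgroup.mem_top g))
    fun i j e => (a5_trans i j e).imp fun x hx =>
      ⟨(h.act_V _ _).trans (h.V_eq hx.1), (h.act_V _ _).trans (h.V_eq hx.2)⟩
  obtain ⟨c1, c2⟩ := five_coeff h2 hab h5 hJ hm (c := Qw F (h.V (a5c 0)))
    (by rw [← l0]; exact mul_self_W h2 (h.V (a5c 0)))
  have c3 := pair_tr (h.le a.2) (h.le b.2) a2 hb3 h5
  rw [tb, hm, ← l1, ← l0, sm_eq, sm_eq, tc, tc, mul_div_cancel_left₀ _ h2, ← h.V_val,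
    ← h.V_val] at c3
  simp only [mul_add, add_mul, trace_add, Matrix.mul_smul, Matrix.smul_mul, trace_smul, mul_one,
    one_mul, (h.V _).2.2, tr_one4, tr_mul_W h2, smul_eq_mul] at c3
  generalize Qw F (h.V (a5c 0)) = Q at *
  generalize polar (Qw F) (h.V (a5c 0)) (h.V (a5c 1)) = β at *
  push_cast at g2
  have c4 : 2 * m = -1 := by
    have d1 : (2 * m + 1) * (8 * m - 1) = 0 := mul_left_cancel₀ h2 (by
      linear_combination 5 * c3 - 2 * g2 + 4 * c1)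
    have d2 : (2 * m + 1) * (4 * m ^ 2 - 6 * m + 1) = 0 := by
      linear_combination (3 * m - 1) * c1 - c2
    have d3 : (2 * m + 1) ^ 2 = 0 := mul_left_cancel₀ (four_ne h2) (by
      linear_combination 16 * d2 - (8 * m - 12) * d1)
    linear_combination pow_eq_zero_iff two_ne_zero |>.1 d3
  have hf : Fr (fun i => (2 : F) • h.V (a5c i)) 12 fun _ => -1 :=
    ⟨h2, h3, by rw [show (12 : F) = 3 * 4 by norm_num]; exact mul_ne_zero h3 (four_ne h2),
      fun i j => by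
        rw [polar_two, g1]
        split_ifs
        · linear_combination 8 * c1 - (12 * m - 14) * c4
        · linear_combination 2 * c3 - (4 * m + 2) * c4⟩
  have hV : ∀ z : alternatingGroup (Fin 5), z ^ 5 = 1 → z ≠ 1 → ∃ j,
      ((z = a5c j ∨ z = (a5c j)⁻¹) ∧ h.V z = h.V (a5c j)) ∨ h.V z = -h.V (a5c j) := fun z e e' =>
    (a5_five z e e').imp fun j hj => hj.imp (fun e => ⟨e, h.V_eq e⟩) fun e => by
      rw [h.V_eq e, h.V_sq, tc, c4]; module
  have o5 : ∀ i, a5c i ^ 5 = 1 ∧ a5c i ≠ 1 := by decide +kernel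
  obtain ⟨g, hg, -, e⟩ := h.rf hH hP hf (fun g hg a b => hf.six fun i => by
    obtain ⟨ψ, i1, -, -, i2⟩ := h.ind g (hn _ hg)
    obtain ⟨j, hj⟩ := hV (ψ (a5c i)) (by rw [← map_pow, (o5 i).1, map_one])
      ((map_ne_one_iff ψ i1).2 (o5 i).2)
    exact ⟨j, hj.imp (fun e => by rw [map_smul, i2, e.2]) fun e => by
      rw [map_smul, i2, e, smul_neg]⟩) (a := 2) (b := 3) (c := 3) (d := 4) (by decide) (by decide)
  obtain ⟨ψ, i1, -, -, i2⟩ := h.ind g (hn _ hg)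
  have key : ∀ i ∈ [0, 1], ψ (ψ (a5c i)) = a5c i := fun i hi => by
    obtain ⟨n2, n3, n4⟩ := (by decide : ∀ i ∈ [0, 1], (i : Fin 6) ≠ 2 ∧ i ≠ 3 ∧ i ≠ 4) i hi
    have e1 : (rho g).1 ((2 : F) • h.V (a5c i)) = (2 : F) • h.V (a5c i) := by
      rw [e, O_mul_apply, refl_apply_of_orth (x := (2 : F) • h.V (a5c i)), refl_apply_of_orth] <;>
        simp [polar_sub_right, hf.gram, n2, n3, n4]
    rw [map_smul, i2] at e1
    obtain ⟨j, ⟨hj, e2⟩ | e2⟩ := hV (ψ (a5c i)) (by rw [← map_pow, (o5 i).1, map_one])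
      ((map_ne_one_iff ψ i1).2 (o5 i).2)
    · obtain rfl : j = i := by_contra fun e3 => hf.ne (by
        have := hf.gram j i
        rw [← e2, e1, hf.gram, if_pos rfl, if_neg e3] at this
        linear_combination this)
      rcases hj with e | e
      · rw [e, e]
      · rw [e, map_inv, e, inv_inv]
    · obtain ⟨k, k1, k2⟩ := (by decide : ∀ i j : Fin 6, ∃ k, i ≠ k ∧ j ≠ k) i j
      have := hf.gram i k
      rw [← e1, e2, smul_neg, polar_neg_left, hf.gram, if_neg k1, if_neg k2] at this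
      exact absurd (by linear_combination this) (four_ne h2)
  have e1 : ∀ z, (rho g).1 ((rho g).1 (h.V z)) = h.V z := fun z => by
    rw [i2, i2]
    exact congrArg h.V ((a5_gen' (K := (ψ.comp ψ).eqLocus (MonoidHom.id _)) (key 0 (by simp))
      (key 1 (by simp))).ge (Subgroup.mem_top z))
  have e2 : (rho g).1 ((rho g).1 ((2 : F) • h.V (a5c 2) - (2 : F) • h.V (a5c 3))) =
      (2 : F) • h.V (a5c 2) - (2 : F) • h.V (a5c 3) := by simp only [map_sub, map_smul, e1]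
  rw [e, O_mul_apply, O_mul_apply, hf.refl_apply' (by decide), hf.refl_apply' (by decide),
    hf.refl_apply' (by decide), hf.refl_apply' (by decide)] at e2
  have e3 := congrArg (polar (Qw F) · ((2 : F) • h.V (a5c 2) - (2 : F) • h.V (a5c 3))) e2
  simp only [polar_self', hf.norm (a := 2) (b := 3) (by decide)] at e3
  exact absurd (hf.inj (by decide) (by decide) e3).1 (by decide)

end Cfsg.Lib.Class.Sp4O
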