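import Cfsg.Agent.Class.Sp4O.T4F
import Cfsg.Agent.Mit.A67

/-! Classes and generators of `A₆`. -/

set_option autoImplicit false

namespace Cfsg.Lib.Class.Sp4O

open Cfsg.Lib.Mit Equiv Equiv.Perm

/-- An involution of `A₆`. -/
def a6a : alternatingGroup (Fin 6) := ⟨swap 0 3 * swap 1 4, mem_alternatingGroup.2 (by decide)⟩
/-- An element of order four. -/
def a6z : alternatingGroup (Fin 6) :=
  ⟨swap 0 1 * swap 1 2 * swap 2 3 * swap 4 5, mem_alternatingGroup.2 (by decide)⟩

theorem a6_out : ∃ e : alternatingGroup (Fin 6) ≃* alternatingGroup (Fin 6), e a6x = a6x * a6y := by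
  obtain ⟨ν, hν⟩ := HN.exists_hom_carm (G := alternatingGroup (Fin 6)) (0 : Fin 6) 1 (by decide)
    ![1, 1, a6x * a6y, ⟨swap 0 2 * swap 2 4 * swap 1 3 * swap 3 5, mem_alternatingGroup.2 (by decide)⟩,
      ⟨swap 0 3 * swap 3 1 * swap 2 5 * swap 5 4, mem_alternatingGroup.2 (by decide)⟩,
      ⟨swap 0 4 * swap 4 3 * swap 1 5 * swap 5 2, mem_alternatingGroup.2 (by decide)⟩]
    (by decide +kernel) (by decide +kernel)
  have e : ν a6x = a6x * a6y := (congrArg ν (Subtype.ext (show a6x.1 = Known.c3 2 0 1 by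
    decide))).trans (hν 2 (by decide) (by decide))
  have := alternatingGroup.isSimpleGroup (α := Fin 6) (by simp)
  exact ⟨MulEquiv.ofBijective ν (Finite.injective_iff_bijective.1 ((MonoidHom.ker_eq_bot_iff ν).1
    ((inferInstance : ν.ker.Normal).eq_bot_or_eq_top.resolve_right fun h =>
      absurd (e.symm.trans (h.ge (Subgroup.mem_top a6x))) (by decide)))), e⟩

/-- An element of order five. -/
def a6g : alternatingGroup (Fin 6) :=
  ⟨swap 0 2 * swap 2 4 * swap 4 3 * swap 3 1, mem_alternatingGroup.2 (by decide)⟩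

theorem a6g_eq : (a6a * a6x) ^ 3 = a6g := by decide +kernel

theorem isConj_of_odd {x y y' : alternatingGroup (Fin 6)} (h : IsConj x.1 y.1) {τ : Perm (Fin 6)}
    (h1 : sign τ = -1) (h2 : τ * y * τ⁻¹ = y') : IsConj x y ∨ IsConj x y' := by
  obtain ⟨k, hk⟩ := isConj_iff.1 h
  refine (Int.units_eq_one_or (sign k)).imp (fun e => isConj_iff.2 ⟨⟨k, e⟩, Subtype.ext hk⟩)
    fun e => isConj_iff.2 ⟨⟨τ * k, mem_alternatingGroup.2 (by simp [e, h1])⟩, Subtype.ext ?_⟩
  change τ * k * x * (τ * k)⁻¹ = y'
  rw [← h2, ← hk]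
  group

theorem a6_five {z : alternatingGroup (Fin 6)} (h5 : z ^ 5 = 1) (h1 : z ≠ 1) :
    IsConj a6g z ∨ IsConj (a6g ^ 2) z := by
  have : Fact (Nat.Prime 5) := ⟨by norm_num⟩
  have key : ∀ z : alternatingGroup (Fin 6), z ^ 5 = 1 → z ≠ 1 →
      z.1.IsCycle ∧ z.1.support.card = 5 := fun z h5 h1 => by
    have h2 := orderOf_eq_prime (x := z.1) (congrArg Subtype.val h5) fun e => h1 (Subtype.ext e)
    have hc := isCycle_of_prime_order' (σ := z.1) (by rw [h2]; norm_num) (by rw [h2]; simp)
    exact ⟨hc, hc.orderOf ▸ h2⟩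
  have := key a6g (by decide +kernel) (by decide)
  exact (isConj_of_odd (y' := a6g ^ 2) ((key z h5 h1).1.isConj this.1
    ((key z h5 h1).2.trans this.2.symm)) (τ := swap 1 3 * swap 3 2 * swap 2 4) (by decide)
    (by decide +kernel)).imp .symm .symm

theorem a6_four {z : alternatingGroup (Fin 6)} (h4 : z ^ 4 = 1) (h2 : z ^ 2 ≠ 1) :
    IsConj z a6z := by
  obtain ⟨k, hk⟩ := isConj_iff.1 (isConj_iff_cycleType_eq.2 (((a6_invol (z * z).1
    (by rw [← Subgroup.coe_mul, ← pow_two, ← pow_two, ← pow_mul, h4]; rfl) (z * z).2).resolve_left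
    fun e => h2 (pow_two z ▸ Subtype.ext e)).trans
      (by decide +kernel : _ = (swap 0 2 * swap 1 3 : Perm (Fin 6)).cycleType)))
  have h1 : IsConj z.1 a6z.1 := by
    refine (isConj_iff.2 ⟨k, rfl⟩).trans ?_
    rcases a6_sq (k * z * k⁻¹) (by rw [conj_mul]; exact hk) (by simp [mem_alternatingGroup.1 z.2]) with e | e
    · rw [e]; rfl
    · exact (isConj_inv_perm _).trans (by rw [e]; rfl)
  exact (isConj_of_odd h1 (τ := swap 4 5) (by decide) (by decide)).elim id id

theorem a6_conj : (∀ z ∈ [a6x, a6y], ∃ k, k * z * k⁻¹ = a6x ^ 2) ∧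
    ∀ z ∈ [a6x * a6y, a6x * a6y⁻¹], ∃ k, k * z * k⁻¹ = (a6x * a6y) ^ 2 := by decide +kernel

theorem a6_trans : ∀ i j : Fin 6, i ≠ j → ∃ x : alternatingGroup (Fin 6), x.1 0 = i ∧ x.1 1 = j := by
  decide +kernel

theorem a6_stab {K : Subgroup (alternatingGroup (Fin 6))} (ha : a6a ∈ K) (hb : a6x ∈ K)
    {σ : alternatingGroup (Fin 6)} (h : σ.1 5 = 5) : σ ∈ K :=
  mem_of_words (α := 0) (β := 1) (by decide) (Finset.univ.erase 5) [[false],
    [true, false, true, false, true, false, false, true],
    [true, false, true, false, false, true, false, false]] (by decide +kernel) ha hb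
    (by simpa using h)

theorem a6_gen4 : ∃ t : alternatingGroup (Fin 6), t ^ 2 = 1 ∧ t ≠ 1 ∧
    ∀ K : Subgroup (alternatingGroup (Fin 6)), t ∈ K → a6z ∈ K → K = ⊤ :=
  ⟨⟨swap 1 4 * swap 2 3, mem_alternatingGroup.2 (by decide)⟩, by decide, by decide,
    fun _ ha hb => eq_top_iff.2 fun _ _ => mem_of_words (α := 0) (β := 1) (by decide) Finset.univ
      [[false, true, false, false, false, true, false, false, true, false, true],
        [true, false, false, false, true, false, false, true, false, true, false],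
        [true, false, false, true, false, true, false, false, true, false, true, false, false, false],
        [false, true, false, true, false, false, false, true, false, false, true]]
      (by decide +kernel) ha hb (by simp)⟩

theorem a6_gen5 : ∃ t : alternatingGroup (Fin 6), t ^ 2 = 1 ∧ t ≠ 1 ∧
    ∀ K : Subgroup (alternatingGroup (Fin 6)), t ∈ K → a6a * a6x ∈ K → K = ⊤ :=
  ⟨⟨swap 1 2 * swap 4 5, mem_alternatingGroup.2 (by decide)⟩, by decide, by decide,
    fun _ ha hb => eq_top_iff.2 fun _ _ => mem_of_words (α := 0) (β := 1) (by decide) Finset.univ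
      [[true, false, false, true, false, false, false, true, false],
        [true, false, false, false, true, false, true, false, false, false, false],
        [false, false, true, false, true, false, false, false, false, true],
        [false, false, false, true, false, true, false, false, true]]
      (by decide +kernel) ha hb (by simp)⟩

end Cfsg.Lib.Class.Sp4O
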