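import Cfsg.Agent.Class.Sp4O.T4G

/-! The double cover of `A₆` in `Sp₄(F)`. -/

set_option autoImplicit false

namespace Cfsg.Lib.Class.Sp4O

open Matrix QuadraticMap Cfsg.Geo Cfsg.Lib.Class.Asch Cfsg.Lib.Class.Orth Cfsg.Lib.Mit Equiv
  Equiv.Perm

variable {F : Type*} [Field F] {G : Type*} [Group G] {P H : Subgroup (G4 F)} {π : P →* G}

theorem Cv.sm_lsq (h : Cv P π) {γ δ : G} (e : IsConj γ δ) {c : F} (hc : sm (lsq π γ) = c • 1) :
    sm (lsq π δ) = c • 1 := by
  obtain ⟨k, rfl⟩ := isConj_iff.1 e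
  obtain ⟨x, rfl⟩ := h.surj k
  rw [h.lsq_conj, sm_conj, hc]
  simp

theorem Cv.lsq_comp (h : Cv P π) {G' : Type*} [Group G'] (e : G ≃* G') (γ : G) :
    lsq (e.toMonoidHom.comp π) (e γ) = lsq π γ := by
  obtain ⟨x, rfl⟩ := h.surj γ
  exact ((h.comp e).lsq_π x).trans (h.lsq_π x).symm

/-- An elementary abelian group of order nine contains a quadratic element. -/
theorem Cv.nine (h : Cv P π) (h3 : (3 : F) ≠ 0) {x y : G} (hc : Commute x y)
    (ho : ∀ z ∈ [x, y, x * y, x * y⁻¹], z ^ 3 = 1 ∧ z ^ 2 ≠ 1) :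
    ∃ z ∈ [x, y, x * y, x * y⁻¹], sm (lsq π z) = (-1 : F) • 1 := by
  by_contra! H
  have h2 := h.h2
  have key : ∀ z ∈ [x, y, x * y, x * y⁻¹], sm (lsq π z) = (h.V z).1 + (2 : F)⁻¹ • 1 := fun z hz => by
    rw [sm_eq, ((cube_cases h2 h3 (h.sp z) (h.lsq_pow_eq_one (ho z hz).1)).resolve_left fun e =>
      (ho z hz).2 (by rw [← h.π_lsq, ← map_one π]; exact congrArg π (Subtype.ext e))).resolve_left
      (H z hz), one_div, h.V_val]
  have sq : ∀ z, z ^ 3 = 1 → sm (lsq π z) * sm (lsq π z) = sm (lsq π z) + (2 : F) • 1 :=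
    fun z hz => by rw [sm_sq, eq_inv_of_mul_eq_one_left (a := lsq π z ^ 2) (b := lsq π z) (by
      rw [← pow_succ, h.lsq_pow_eq_one hz]), sm_inv]
  have x3 := (ho x (by simp)).1
  have c : Commute (lsq π x) (lsq π y) := by
    rw [Commute, SemiconjBy, ← h.lsq_mul hc (by decide) x3, hc.eq,
      h.lsq_mul hc.symm (by decide) (ho y (by simp)).1]
  have e1 : sm (lsq π x) * sm (lsq π y) = sm (lsq π (x * y)) + sm (lsq π (x * y⁻¹)) := by
    rw [h.lsq_mul hc (by decide) x3, h.lsq_mul hc.inv_right (by decide) x3, h.lsq_inv]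
    simp only [sm, mul_add, add_mul, ← Units.val_mul, c.mul_inv, c.inv_right.mul_inv, inv_inv]
    abel
  have e2 : sm (lsq π y) * sm (lsq π x) = sm (lsq π x) * sm (lsq π y) := by
    have c' : Commute (lsq π y).1 (lsq π x).1 := congrArg Units.val c.symm.eq
    exact ((c'.add_right c'.units_inv_right).add_left
      (c'.units_inv_left.add_right c'.units_inv_left.units_inv_right)).eq
  obtain ⟨Z, hZ⟩ : ∃ Z : W F, (1 + sm (lsq π x)) * (1 + sm (lsq π y)) = Z.1 + (3 : F) • 1 :=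
    ⟨h.V x + h.V y + h.V (x * y) + h.V (x * y⁻¹), by
      have : (3 : F) = 1 + 4 * 2⁻¹ := by field_simp; norm_num
      simp only [mul_add, add_mul, mul_one, one_mul, e1, Submodule.coe_add]
      rw [key x (by simp), key y (by simp), key (x * y) (by simp), key (x * y⁻¹) (by simp), this]
      module⟩
  have e3 : (Z.1 + (3 : F) • 1) * (Z.1 + (3 : F) • 1) = (9 : F) • (Z.1 + (3 : F) • 1) := by
    have a1 := sq x x3
    have a2 := sq y (ho y (by simp)).1
    rw [← hZ, show (9 : F) = ((9 : ℕ) : F) by norm_num, Nat.cast_smul_eq_nsmul]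
    rw [two_smul] at a1 a2
    generalize sm (lsq π x) = A at *
    generalize sm (lsq π y) = B at *
    linear_combination (norm := noncomm_ring) (1 + A) * e2 * (1 + B) + a1 * (1 + B) * (1 + B) +
      3 * (1 + A) * a2
  simp only [mul_add, add_mul, mul_self_W h2, Matrix.mul_smul, Matrix.smul_mul, mul_one,
    one_mul] at e3
  by_cases h0 : Z.1 = 0
  · rw [h0, show Z = 0 from Subtype.ext h0, map_zero] at e3
    have : (2 * 3 * 3 : F) • (1 : M4 F) = (0 : F) • 1 := by linear_combination (norm := module) -e3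
    simpa [h2, h3] using smul_one_inj this
  · exact h3 (quad_coeff h2 Z.2 h0 (b := 18 - Qw F Z) (by
      linear_combination (norm := module) -e3)).1

theorem Cv.exists_quad {z : G} (h : Cv P π) {x : P} (e : IsConj (π x) z) (h0 : Jm x.1 = 0) :
    ∃ (y : P) (c : F), π y = z ∧ sm y.1 = c • 1 := by
  obtain ⟨k, rfl⟩ := isConj_iff.1 e
  obtain ⟨k, rfl⟩ := h.surj k
  exact ⟨k * x * k⁻¹, _, by simp, (sm_eq _).trans (by
    rw [show (k * x * k⁻¹).1 = k.1 * x * k.1⁻¹ from rfl, Jm_conj, h0, mul_zero, zero_mul, zero_add])⟩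

theorem Cv.not_quad {z : G} (h : Cv P π) {x : P} (e : IsConj (π x) z)
    (hz : ∃ t : G, t ^ 2 = 1 ∧ t ≠ 1 ∧ ∀ K : Subgroup G, t ∈ K → z ∈ K → K = ⊤) : Jm x.1 ≠ 0 :=
  fun h0 => by
    obtain ⟨y, c, rfl, hc⟩ := h.exists_quad e h0
    obtain ⟨t, h1, h2, h3⟩ := hz
    obtain ⟨t, rfl⟩ := h.surj t
    exact h.quad (sm_of_sq (h.sq_eq h1 h2)) hc h3

theorem Cv.alt6_aux [Fintype F] {π : P →* alternatingGroup (Fin 6)} (h : Cv P π)
    (h3 : (3 : F) ≠ 0) (hH : IsMaximalIn (spGL 2 F) H) (hP : P ≤ H) (hn : NrmG H P) (p : ℕ)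
    [Fact p.Prime] [CharP F p] (hq : sm (lsq π (a6x ^ 2)) = (-1 : F) • 1) :
    Fintype.card F = p ∧ p ≠ 7 := by
  have h2 := h.h2
  obtain ⟨a, b, ea, eb, a2, b3, e5⟩ := h.tri (α := a6a) (β := a6x) (by decide) (by decide)
    (by decide) (by decide +kernel)
  rw [a6g_eq] at e5
  have h5 : (a.1 * b.1) ^ 5 = 1 := e5 ▸ h.lsq_pow_eq_one (by decide +kernel)
  obtain ⟨s1, s2, s3⟩ := five_of_quad a2 (b3 ▸ hq) h5
  have hab : a.1 * b.1 ∈ spGL 2 F := h.le (a * b).2
  have hJ : Jm (a.1 * b.1) ≠ 0 := h.not_quad (x := a * b) (by rw [map_mul, ea, eb]) a6_gen5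
  have t1 : (lsq π a6g).1.trace = -1 := e5 ▸ (sm_quad h2 hab (a := 1) (b := -1)
    (by rw [← s1]; module)).resolve_left fun e => hJ e.1
  have t2 : (lsq π (a6g ^ 2)).1.trace = -1 := by
    have e1 := congrArg trace (sm_sq (lsq π a6g))
    have e2 := congrArg trace s1
    rw [← e5, trace_sub, trace_add, e1, trace_add, tr_sm (h.sp _), tr_sm (pow_mem (h.sp _) 2), t1,
      trace_smul, tr_one4, trace_zero, smul_eq_mul, ← h.lsq_pow] at e2
    exact mul_left_cancel₀ h2 (by linear_combination e2)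
  constructor
  · refine h.card_eq p fun g hg => ?_
    suffices ∃ n : ℤ, g.1.trace = n by
      obtain ⟨n, hn⟩ := this
      simpa [hn] using int_pow_char (F := F) p n 1
    have key : ∀ y : G4 F, g = y ∨ g = -y → (∃ n : ℤ, y.1.trace = n) → ∃ n : ℤ, g.1.trace = n := by
      rintro y (rfl | rfl) ⟨n, hn⟩
      exacts [⟨n, hn⟩, ⟨-n, by simp [hn]⟩]
    by_cases e0 : π ⟨g, hg⟩ = 1
    · exact key 1 ((h.ker' _).1 e0) ⟨4, by simp⟩
    rcases a6_pow _ (π ⟨g, hg⟩).2 with e | e | e <;> replace e : π ⟨g, hg⟩ ^ _ = 1 := Subtype.ext e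
    · refine key _ (h.eq_or_lsq (k := 1) e) ?_
      rcases cube_cases h2 h3 (h.sp _) (h.lsq_pow_eq_one (γ := π ⟨g, hg⟩ ^ (1 + 1))
        (by rw [← pow_mul, mul_comm, pow_mul, e, one_pow])) with e1 | e1 | e1
      · exact ⟨4, by simp [e1]⟩
      · exact ⟨-2, mul_left_cancel₀ h2 (by rw [← tr_sm (h.sp _), e1]; simp; norm_num)⟩
      · exact ⟨1, by simp [e1]⟩
    · by_cases e1 : π ⟨g, hg⟩ ^ 2 = 1
      · exact ⟨0, by simpa using tr_of_sq h2 (h.le hg) (h.sq_eq e1 e0)⟩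
      have e2 := sm_of_sq (h.sq_eq (x := ⟨g, hg⟩ ^ 2) (by rw [map_pow, ← pow_mul, e])
        (by rwa [map_pow]))
      exact ⟨0, by simpa using (sm_quad h2 (h.le hg) (a := 0) (b := -2) (by
        rw [sm_sq, show sm (g ^ 2) = _ from e2]; module)).resolve_left fun e3 =>
          h.not_quad (x := ⟨g, hg⟩) (a6_four e e1) a6_gen4 e3.1⟩
    · refine key _ (h.eq_or_lsq (k := 2) e) ⟨-1, ?_⟩
      rcases a6_five (z := π ⟨g, hg⟩ ^ (2 + 1)) (by rw [← pow_mul, mul_comm, pow_mul, e, one_pow])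
        (fun e1 => e0 (by simpa using pow_gcd_eq_one.2 ⟨e, e1⟩)) with e1 | e1 <;>
        simp [h.tr_lsq e1, t1, t2]
  rintro rfl
  have h7 : (7 : F) = 0 := by exact_mod_cast CharP.cast_eq_zero F 7
  have fx : ∀ x : P, sm (a.1 * b.1) * x.1.1 = x.1.1 * sm (a.1 * b.1) → π x ∈ h.stabG (h.V a6g) :=
    fun x e => h.mem_stabG.2 <| Subtype.ext (by
      rw [h.act_π, rho_apply, h.V_val, e5, Units.mul_inv_eq_iff_eq_mul]
      rw [sm_eq, add_mul, mul_add, Matrix.smul_mul, Matrix.mul_smul, one_mul, mul_one] at e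
      exact (add_right_cancel e).symm)
  choose c hc using (by decide +kernel : ∀ i : Fin 6, ∃ c : alternatingGroup (Fin 6), c.1 5 = i)
  obtain ⟨w, hw⟩ : ∃ w : Fin 6 → W F, ∀ i, w i = (h.act (c i)).1 (h.V a6g) := ⟨_, fun _ => rfl⟩
  have w1 : ∀ x : alternatingGroup (Fin 6), (h.act x).1 (h.V a6g) = w (x.1 5) := fun x => by
    have : (h.act ((c (x.1 5))⁻¹ * x)).1 (h.V a6g) = h.V a6g :=
      a6_stab (ea ▸ fx a s2) (eb ▸ fx b s3) (Perm.inv_eq_iff_eq.2 (hc _).symm)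
    rw [hw]
    conv_rhs => rw [← this, ← O_mul_apply, ← map_mul, mul_inv_cancel_left]
  have w2 : ∀ x i, (h.act x).1 (w i) = w (x.1 i) := fun x i => by
    rw [hw, ← O_mul_apply, ← map_mul, w1, ← hc i]; simp [hc]
  obtain ⟨g1, g2⟩ := h.gram (w := w) (h.fix' fun g => by
    rw [map_sum, ← Equiv.sum_comp g.1 w]; exact Finset.sum_congr rfl fun i _ => w2 g i)
    fun i j e => (a6_trans i j e).imp fun x hx => by rw [w2, w2, hx.1, hx.2]; exact ⟨rfl, rfl⟩
  have c1 := (five_coeff h2 hab h5 hJ (m := 3) (c := Qw F (h.V a6g))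
    (by rw [← e5, t1]; linear_combination -h7) (by rw [← e5]; exact mul_self_W h2 (h.V a6g))).1
  rw [hw 0, O_map] at g1 g2
  generalize Qw F (h.V a6g) = Q at *
  generalize polar (Qw F) ((h.act (c 0)).1 (h.V a6g)) (w 1) = β at *
  push_cast at g2
  have n12 : (12 : F) ≠ 0 := by
    rw [show (12 : F) = 3 * 4 by norm_num]; exact mul_ne_zero h3 (four_ne h2)
  have hf : Fr (fun i => (2 : F) • w i) 12 fun _ => -1 := ⟨h2, h3, n12, fun i j => by
    rw [polar_two, g1]
    split_ifs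
    · linear_combination 8 * c1 - 22 * h7
    · linear_combination 12 * g2 - 24 * c1 + (62 - 8 * β) * h7⟩
  have hf' : Fr (fun i : Option (Fin 6) => i.elim 0 fun i => (2 : F) • w i) 12
      fun i => i.elim 1 fun _ => -1 := ⟨h2, h3, n12, fun i j => by
    rcases i with _ | i <;> rcases j with _ | j
    · simp; linear_combination -2 * h7
    · simp
    · simp
    · simpa using hf.gram i j⟩
  have hi : ∀ g : spGL 2 F, g.1 ∈ H → ∀ i, ∃ j, (rho g).1 ((2 : F) • w i) = (2 : F) • w j ∨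
      (rho g).1 ((2 : F) • w i) = -((2 : F) • w j) := fun g hg i => by
    obtain ⟨ψ, i1, -, -, i2⟩ := h.ind g (hn _ hg)
    rw [hw, h.act_V, map_smul, i2]
    rcases a6_five (z := ψ (c i * a6g * (c i)⁻¹)) (by
      rw [← map_pow, conj_pow, show a6g ^ 5 = 1 by decide +kernel]; simp)
      ((map_ne_one_iff ψ i1).2 (by rw [Ne, conj_eq_one_iff]; decide)) with e | e <;>
      obtain ⟨k, e⟩ := isConj_iff.1 e <;> rw [← e, ← h.act_V]
    · exact ⟨_, .inl (by rw [w1])⟩
    · exact ⟨_, .inr (by rw [h.V_sq, t1, map_smul, w1]; module)⟩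
  obtain ⟨g, hg, -, e⟩ := h.rf hH hP hf' (fun g hg a b e => by
    rcases a with _ | a <;> rcases b with _ | b
    · exact absurd rfl e
    · obtain ⟨j, e | e⟩ := hi g hg b
      exacts [⟨none, some j, by simp, by simp [e]⟩, ⟨some j, none, by simp, by simp [e]⟩]
    · obtain ⟨j, e | e⟩ := hi g hg a
      exacts [⟨some j, none, by simp, by simp [e]⟩, ⟨none, some j, by simp, by simp [e]⟩]
    · obtain ⟨c, d, e1, e2⟩ := hf.six (hi g hg) (mt (congrArg some) e)
      exact ⟨some c, some d, by simpa using e1, e2⟩)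
    (a := some 0) (b := none) (c := some 0) (d := some 1) (by decide) (by decide)
  have e1 := hf'.refl_apply' (a := some 0) (b := some 1) (by decide) (some 2) none
  have e2 := hf'.refl_apply' (a := some 0) (b := none) (by decide) (some 2) none
  rw [show Equiv.swap (some 0) (some 1) (some (2 : Fin 6)) = some 2 by decide,
    show Equiv.swap (some 0) (some (1 : Fin 6)) none = none by decide] at e1
  rw [show Equiv.swap (some 0) none (some (2 : Fin 6)) = some 2 by decide, swap_apply_right,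
    ← e1, ← O_mul_apply, ← e] at e2
  have e3 := hf'.norm (a := some 2) (b := some 0) (by decide)
  obtain ⟨j, e4 | e4⟩ := hi g hg 2
  · exact absurd (hf'.inj (a := some j) (b := none) (c := some 2) (d := some 0) (by simp)
      (by decide) (by rw [← e3, ← polar_self', ← e2]; simp [e4])).2 (by decide)
  · exact absurd (hf'.inj (a := none) (b := some j) (c := some 2) (d := some 0) (by simp)
      (by decide) (by rw [← e3, ← polar_self', ← e2]; simp [e4])).1 (by decide)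

theorem Cv.alt6 [Fintype F] {π : P →* alternatingGroup (Fin 6)} (h : Cv P π)
    (h3 : (3 : F) ≠ 0) (hH : IsMaximalIn (spGL 2 F) H) (hP : P ≤ H) (hn : NrmG H P) (p : ℕ)
    [Fact p.Prime] [CharP F p] : Fintype.card F = p ∧ p ≠ 7 := by
  obtain ⟨z, hz, e⟩ := h.nine h3 (x := a6x) (y := a6y) a6_nine.comm (by decide +kernel)
  by_cases h1 : z ∈ [a6x, a6y]
  · exact h.alt6_aux h3 hH hP hn p (h.sm_lsq (isConj_iff.2 (a6_conj.1 z h1)) e)
  obtain ⟨ν, hν⟩ := a6_out
  refine (h.comp ν.symm).alt6_aux h3 hH hP hn p ?_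
  rw [← ν.symm_apply_apply (a6x ^ 2), h.lsq_comp, map_pow, hν]
  exact h.sm_lsq (isConj_iff.2 (a6_conj.2 z (by simp at hz h1 ⊢; tauto))) e

end Cfsg.Lib.Class.Sp4O
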